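import Mathlib
import Cfsg.Agent.Lib.Invol.Dihedral

/-!
# Frobenius: the number of solutions of `x ^ n = c`
-/

set_option autoImplicit false

universe u

namespace CfsgLib.Frobenius

variable {G : Type*} [Group G]

/-- The number of solutions of `x ^ n = c`. -/
noncomputable def roots (c : G) (n : ℕ) : ℕ := Nat.card {x : G // x ^ n = c}

theorem roots_conj (c g : G) (n : ℕ) : roots (g * c * g⁻¹) n = roots c n := by
  refine Nat.card_congr ((MulAut.conj g⁻¹).toEquiv.subtypeEquiv fun x => ?_)
  show x ^ n = g * c * g⁻¹ ↔ (MulAut.conj g⁻¹ x) ^ n = c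
  rw [← map_pow, MulAut.conj_apply, inv_inv]
  constructor
  · intro h
    rw [h]; group
  · intro h
    rw [← h]; group

/-- If `gcd(n, |C(y)|)` divides the number of `n`-th roots of `y` for all `y` in a class set `S`,
then `gcd(n, |G|)` divides the number of `x` with `x ^ n ∈ S`. -/
theorem dvd_card_pow_mem [Finite G] (n : ℕ) (S : G → Prop)
    (hS : ∀ y g : G, S y → S (g * y * g⁻¹))
    (h : ∀ y, S y → Nat.gcd n (Nat.card (Subgroup.centralizer ({y} : Set G))) ∣ roots y n) :
    Nat.gcd n (Nat.card G) ∣ Nat.card {x : G // S (x ^ n)} := by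
  classical
  have := Fintype.ofFinite G
  have hsum : Nat.card {x : G // S (x ^ n)} = ∑ y ∈ Finset.univ.filter S, roots y n := by
    simp only [roots, Nat.card_eq_fintype_card, Fintype.card_subtype]
    rw [Finset.card_eq_sum_card_fiberwise (f := fun x : G => x ^ n) (t := Finset.univ.filter S)
      (fun x hx => by simpa using hx)]
    refine Finset.sum_congr rfl fun y hy => congrArg Finset.card ?_
    ext x
    simp only [Finset.mem_filter, Finset.mem_univ, true_and] at hy ⊢
    exact ⟨fun hh => hh.2, fun hh => ⟨hh ▸ hy, hh⟩⟩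
  rw [hsum, ← Finset.sum_fiberwise_of_maps_to (g := ConjClasses.mk) (t := Finset.univ)
    (fun _ _ => Finset.mem_univ _)]
  refine Finset.dvd_sum fun K _ => ?_
  by_cases hK : ∃ y, S y ∧ ConjClasses.mk y = K
  · obtain ⟨y, hy, rfl⟩ := hK
    have hset : (Finset.univ.filter S).filter (fun v => ConjClasses.mk v = ConjClasses.mk y) =
        Finset.univ.filter (fun v => IsConj y v) := by
      ext v
      simp only [Finset.mem_filter, Finset.mem_univ, true_and, ConjClasses.mk_eq_mk_iff_isConj]
      constructor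
      · exact fun hh => hh.2.symm
      · intro hh
        obtain ⟨g, rfl⟩ := isConj_iff.mp hh
        exact ⟨hS y g hy, hh.symm⟩
    rw [hset, Finset.sum_congr rfl (g := fun _ => roots y n) fun v hv => by
      obtain ⟨g, rfl⟩ := isConj_iff.mp (Finset.mem_filter.mp hv).2
      exact roots_conj y g n]
    rw [Finset.sum_const, smul_eq_mul, ← Fintype.card_subtype, ← Nat.card_eq_fintype_card,
      ← Invol.card_isConj_mul_card_centralizer y]
    refine (Nat.gcd_dvd_gcd_of_dvd_left _ (Dvd.intro_left _ rfl :
      n ∣ Nat.card {v : G // IsConj y v} * n)).trans ?_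
    rw [Nat.gcd_mul_left]
    exact Nat.mul_dvd_mul_left _ (h y hy)
  · rw [Finset.sum_eq_zero fun v hv => ?_]
    · exact dvd_zero _
    · obtain ⟨hv, hvK⟩ := Finset.mem_filter.mp hv
      exact absurd ⟨v, (Finset.mem_filter.mp hv).2, hvK⟩ hK

theorem pow_dvd_orderOf {p : ℕ} (hp : p.Prime) {x : G} (e : ℕ) (h : p ∣ orderOf (x ^ p ^ e))
    [Finite G] : p ^ e ∣ orderOf x := by
  obtain ⟨k, hk, hgcd⟩ := (Nat.dvd_prime_pow hp).mp (Nat.gcd_dvd_right (orderOf x) (p ^ e))
  rcases hk.eq_or_lt with e1 | hlt
  · exact e1 ▸ hgcd ▸ Nat.gcd_dvd_left _ _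
  · exfalso
    rw [orderOf_pow, hgcd] at h
    have h1 : p ^ k * p ∣ orderOf x := by
      have := Nat.mul_dvd_mul_left (p ^ k) h
      rwa [Nat.mul_div_cancel' (hgcd ▸ Nat.gcd_dvd_left _ _)] at this
    have h2 : p ^ (k + 1) ∣ Nat.gcd (orderOf x) (p ^ e) :=
      Nat.dvd_gcd (by rwa [pow_succ]) (pow_dvd_pow p hlt)
    rw [hgcd, Nat.pow_dvd_pow_iff_le_right hp.one_lt] at h2
    omega

/-- The solutions of `x ^ (p ^ e) = c` fall into cosets of size `p ^ e` when `p ∣ orderOf c`. -/
theorem pow_dvd_roots [Finite G] {p : ℕ} (hp : p.Prime) (e : ℕ) (c : G) (hc : p ∣ orderOf c) :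
    p ^ e ∣ roots c (p ^ e) := by
  classical
  have := Fintype.ofFinite G
  rw [roots, Nat.card_eq_fintype_card, Fintype.card_subtype,
    Finset.card_eq_sum_card_fiberwise (f := fun x : G => Subgroup.zpowers x) (t := Finset.univ)
      (fun _ _ => Finset.mem_univ _)]
  refine Finset.dvd_sum fun K _ => ?_
  rcases Finset.eq_empty_or_nonempty
    ((Finset.univ.filter fun x : G => x ^ p ^ e = c).filter fun x => Subgroup.zpowers x = K)
    with he | ⟨x, hx⟩
  · rw [he]; exact dvd_zero _
  simp only [Finset.mem_filter, Finset.mem_univ, true_and] at hx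
  obtain ⟨hxc, rfl⟩ := hx
  have hq : p ^ e ∣ orderOf x := pow_dvd_orderOf hp e (by rw [hxc]; exact hc)
  set w := x ^ (orderOf x / p ^ e) with hwdef
  have hw : orderOf w = p ^ e := orderOf_pow_orderOf_div (orderOf_pos x).ne' hq
  have hordc : ∀ y : G, y ^ p ^ e = c → orderOf y = orderOf c * p ^ e := by
    intro y hy
    have h1 : p ^ e ∣ orderOf y := pow_dvd_orderOf hp e (by rw [hy]; exact hc)
    rw [← hy, orderOf_pow, Nat.gcd_eq_right h1, Nat.div_mul_cancel h1]
  have key : ∀ z : G, (z ∈ Subgroup.zpowers w) ↔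
      ((x * z) ^ p ^ e = c ∧ Subgroup.zpowers (x * z) = Subgroup.zpowers x) := by
    intro z
    constructor
    · intro hz
      have hzx : z ∈ Subgroup.zpowers x :=
        Subgroup.zpowers_le.mpr (Subgroup.pow_mem _ (Subgroup.mem_zpowers x) _) hz
      obtain ⟨i, rfl⟩ := Subgroup.mem_zpowers_iff.mp hz
      have hcomm : Commute x (w ^ i) := ((Commute.refl x).pow_right _).zpow_right i
      have hpow : (x * w ^ i) ^ p ^ e = c := by
        rw [hcomm.mul_pow, hxc]
        have : (w ^ i) ^ p ^ e = 1 := by
          rw [← zpow_natCast (w ^ i), ← zpow_mul, mul_comm, zpow_mul, zpow_natCast, ← hw,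
            pow_orderOf_eq_one, one_zpow]
        rw [this, mul_one]
      refine ⟨hpow, Subgroup.eq_of_le_of_card_ge ?_ ?_⟩
      · exact Subgroup.zpowers_le.mpr (mul_mem (Subgroup.mem_zpowers x) hzx)
      · rw [Nat.card_zpowers, Nat.card_zpowers, hordc _ hxc, hordc _ hpow]
    · rintro ⟨hpow, hK⟩
      have hzx : z ∈ Subgroup.zpowers x := by
        have h1 : x * z ∈ Subgroup.zpowers x := hK ▸ Subgroup.mem_zpowers _
        have := mul_mem (inv_mem (Subgroup.mem_zpowers x)) h1
        rwa [inv_mul_cancel_left] at this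
      rw [← mem_powers_iff_mem_zpowers] at hzx
      obtain ⟨j, rfl⟩ := hzx
      simp only at hpow ⊢
      rw [((Commute.refl x).pow_right j).mul_pow, hxc, mul_eq_left, ← pow_mul,
        ← orderOf_dvd_iff_pow_eq_one] at hpow
      have : orderOf x / p ^ e ∣ j := by
        rw [← Nat.mul_div_cancel j (pow_pos hp.pos e)]
        exact Nat.div_dvd_div hq hpow
      obtain ⟨i, rfl⟩ := this
      rw [pow_mul]
      exact Subgroup.pow_mem _ (Subgroup.mem_zpowers _) i
  refine dvd_of_eq ?_
  have hcard : (Finset.univ : Finset (Subgroup.zpowers w)).card = p ^ e := by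
    rw [Finset.card_univ, ← Nat.card_eq_fintype_card, Nat.card_zpowers, hw]
  refine hcard.symm.trans ?_
  refine Finset.card_bij (fun z _ => x * (z : G)) (fun z _ => ?_) (fun a _ b _ h => ?_) (fun y hy => ?_)
  · simp only [Finset.mem_filter, Finset.mem_univ, true_and]
    exact (key z).mp z.2
  · exact Subtype.ext (mul_left_cancel h)
  · simp only [Finset.mem_filter, Finset.mem_univ, true_and] at hy
    exact ⟨⟨x⁻¹ * y, (key _).mpr (by rwa [mul_inv_cancel_left])⟩, Finset.mem_univ _,
      mul_inv_cancel_left x y⟩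

/-- **Frobenius**: `gcd(n, |C(c)|)` divides the number of solutions of `x ^ n = c`. -/
theorem gcd_dvd_roots_aux : ∀ (N : ℕ) (G : Type u) [Group G] [Finite G], Nat.card G ≤ N →
    ∀ (n : ℕ) (c : G), Nat.gcd n (Nat.card (Subgroup.centralizer ({c} : Set G))) ∣ roots c n := by
  intro N
  induction N with
  | zero =>
    intro G _ _ h
    exact absurd (Nat.card_pos (α := G)) (by omega)
  | succ N ih =>
    intro G _ _ hG
    have noncentral : ∀ (n : ℕ) (c : G), Subgroup.centralizer ({c} : Set G) ≠ ⊤ →
        Nat.gcd n (Nat.card (Subgroup.centralizer ({c} : Set G))) ∣ roots c n := by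
      intro n c hc
      let H := Subgroup.centralizer ({c} : Set G)
      have hlt : Nat.card H < Nat.card G :=
        lt_of_le_of_ne (Subgroup.card_le_card_group H) (fun e => hc (Subgroup.eq_top_of_card_eq H e))
      let c' : H := ⟨c, Subgroup.mem_centralizer_singleton_iff.mpr rfl⟩
      have := ih H (by omega) n c'
      have htop : Subgroup.centralizer ({c'} : Set H) = ⊤ := by
        rw [eq_top_iff]
        intro h _
        exact Subgroup.mem_centralizer_singleton_iff.mpr
          (Subtype.ext (Subgroup.mem_centralizer_singleton_iff.mp h.2))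
      rw [htop, Subgroup.card_top] at this
      refine this.trans (dvd_of_eq ?_)
      refine Nat.card_congr
        { toFun := fun x => ⟨(x.1 : G), by simpa [c'] using congrArg Subtype.val x.2⟩
          invFun := fun x => ⟨⟨x.1, Subgroup.mem_centralizer_singleton_iff.mpr
            ((congrArg (fun t => (x.1 : G) * t = t * x.1) x.2).mp ((Commute.refl x.1).pow_right n).eq)⟩,
            Subtype.ext (by simpa [c'] using x.2)⟩
          left_inv := fun x => rfl
          right_inv := fun x => rfl }
    intro n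
    induction n using Nat.recOnPrimeCoprime with
    | zero =>
      intro c
      rw [Nat.gcd_zero_left]
      rcases eq_or_ne c 1 with rfl | hne
      · refine dvd_of_eq ?_
        rw [roots, Nat.card_congr (Equiv.subtypeUnivEquiv fun x : G => pow_zero x),
          show Subgroup.centralizer ({1} : Set G) = ⊤ from eq_top_iff.mpr fun x _ =>
            Subgroup.mem_centralizer_singleton_iff.mpr (by rw [one_mul, mul_one]), Subgroup.card_top]
      · have : IsEmpty {x : G // x ^ 0 = c} := ⟨fun x => hne (by rw [← x.2, pow_zero])⟩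
        rw [roots, Nat.card_of_isEmpty (α := {x : G // x ^ 0 = c})]
        exact dvd_zero _
    | prime_pow p e hp =>
      intro c
      by_cases hc : Subgroup.centralizer ({c} : Set G) = ⊤
      swap
      · exact noncentral _ c hc
      rw [hc, Subgroup.card_top]
      by_cases hpc : p ∣ orderOf c
      · exact (Nat.gcd_dvd_left _ _).trans (pow_dvd_roots hp e c hpc)
      obtain ⟨m, hm⟩ := exists_pow_eq_self_of_coprime
        ((hp.coprime_iff_not_dvd.mpr hpc).pow_left e)
      have hcen : ∀ x : G, Commute x c := fun x =>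
        Subgroup.mem_centralizer_singleton_iff.mp (hc ▸ Subgroup.mem_top x)
      have hd : (c ^ m) ^ p ^ e = c := by rw [← pow_mul, mul_comm, pow_mul, hm]
      have h1 : roots c (p ^ e) = roots (1 : G) (p ^ e) := by
        refine Nat.card_congr ((Equiv.mulRight (c ^ m)⁻¹).subtypeEquiv fun x => ?_)
        rw [Equiv.coe_mulRight, ((hcen x).pow_right m).inv_right.mul_pow, inv_pow, hd, mul_inv_eq_one]
      rw [h1]
      -- the central elements of order prime to `p`
      let A : Subgroup G :=
        { carrier := {y | y ∈ Subgroup.center G ∧ ¬ p ∣ orderOf y}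
          one_mem' := ⟨one_mem _, by rw [orderOf_one, Nat.dvd_one]; exact hp.ne_one⟩
          mul_mem' := fun {a b} ha hb => ⟨mul_mem ha.1 hb.1, fun h => by
            have hab : Commute a b := Subgroup.mem_center_iff.mp hb.1 a
            have := h.trans hab.orderOf_mul_dvd_mul_orderOf
            rcases (Nat.Prime.dvd_mul hp).mp this with h | h
            exacts [ha.2 h, hb.2 h]⟩
          inv_mem' := fun {a} ha => ⟨inv_mem ha.1, by rw [orderOf_inv]; exact ha.2⟩ }
      have hA : ¬ p ∣ Nat.card A := by
        haveI := Fact.mk hp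
        intro h
        obtain ⟨a, ha⟩ := exists_prime_orderOf_dvd_card' p h
        exact a.2.2 (by rw [Subgroup.orderOf_coe, ha])
      have hsplit : Nat.card G = Nat.card {x : G // x ^ p ^ e ∈ A} +
          Nat.card {x : G // ¬ x ^ p ^ e ∈ A} := by
        classical
        rw [← Nat.card_sum]
        exact (Nat.card_congr (Equiv.sumCompl _)).symm
      have h2 : Nat.gcd (p ^ e) (Nat.card G) ∣ Nat.card {x : G // ¬ x ^ p ^ e ∈ A} := by
        refine dvd_card_pow_mem (p ^ e) (fun y => ¬ y ∈ A) (fun y g hy hA' => hy ?_) fun y hy => ?_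
        · refine ⟨?_, ?_⟩
          · have := (Subgroup.Normal.conj_mem inferInstance _ hA'.1 g⁻¹ : _ ∈ Subgroup.center G)
            rwa [show g⁻¹ * (g * y * g⁻¹) * g⁻¹⁻¹ = y by group] at this
          · exact fun h => hA'.2 (by rw [← MulAut.conj_apply, MulEquiv.orderOf_eq]; exact h)
        · by_cases hyc : Subgroup.centralizer ({y} : Set G) = ⊤
          · have hyc' : y ∈ Subgroup.center G := Subgroup.mem_center_iff.mpr fun g =>
              Subgroup.mem_centralizer_singleton_iff.mp (hyc ▸ Subgroup.mem_top g)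
            exact (Nat.gcd_dvd_left _ _).trans (pow_dvd_roots hp e y
              (by by_contra h; exact hy ⟨hyc', h⟩))
          · exact noncentral _ y hyc
      have h3 : Nat.card {x : G // x ^ p ^ e ∈ A} = Nat.card A * roots (1 : G) (p ^ e) := by
        rw [roots, ← Nat.card_prod]
        refine Nat.card_congr ?_
        have hroot : ∀ a : A, ∃ d : G, d ∈ Subgroup.center G ∧ d ^ p ^ e = (a : G) := fun a => by
          obtain ⟨k, hk⟩ := exists_pow_eq_self_of_coprime ((hp.coprime_iff_not_dvd.mpr a.2.2).pow_left e)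
          exact ⟨(a : G) ^ k, pow_mem a.2.1 k, by rw [← pow_mul, mul_comm, pow_mul, hk]⟩
        choose d hdc hd using hroot
        have hpow : ∀ (a : A) (x : G), (x * d a) ^ p ^ e = x ^ p ^ e * a := fun a x => by
          rw [Commute.mul_pow (Subgroup.mem_center_iff.mp (hdc a) x), hd]
        exact
          { toFun := fun x => (⟨x.1 ^ p ^ e, x.2⟩, ⟨x.1 * (d ⟨x.1 ^ p ^ e, x.2⟩)⁻¹, by
              have := hpow ⟨x.1 ^ p ^ e, x.2⟩ (x.1 * (d ⟨x.1 ^ p ^ e, x.2⟩)⁻¹)
              rw [inv_mul_cancel_right] at this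
              exact mul_eq_right.mp this.symm⟩)
            invFun := fun y => ⟨y.2.1 * d y.1, by rw [hpow, y.2.2, one_mul]; exact y.1.2⟩
            left_inv := fun x => Subtype.ext (by simp)
            right_inv := fun y => by
              have e0 : (y.2.1 * d y.1) ^ p ^ e = (y.1 : G) := (hpow y.1 y.2.1).trans (by rw [y.2.2, one_mul])
              refine Prod.ext (Subtype.ext e0) (Subtype.ext ?_)
              show y.2.1 * d y.1 * (d _)⁻¹ = y.2.1
              rw [congrArg d (Subtype.ext e0 : (⟨_, _⟩ : A) = y.1)]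
              exact mul_inv_cancel_right _ _ }
      have h4 : Nat.gcd (p ^ e) (Nat.card G) ∣ Nat.card A * roots (1 : G) (p ^ e) := by
        rw [← h3, Nat.dvd_add_left h2 |>.symm, ← hsplit]
        exact Nat.gcd_dvd_right _ _
      refine (Nat.Coprime.dvd_mul_left ?_).mp h4
      exact Nat.Coprime.coprime_dvd_left (Nat.gcd_dvd_left _ _)
        ((hp.coprime_iff_not_dvd.mpr hA).pow_left e)
    | coprime a b ha hb hab iha ihb =>
      intro c
      by_cases hc : Subgroup.centralizer ({c} : Set G) = ⊤
      swap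
      · exact noncentral _ c hc
      rw [hc, Subgroup.card_top, Nat.gcd_comm, Nat.Coprime.gcd_mul _ hab]
      have step : ∀ a b : ℕ, (∀ y : G, Nat.gcd a (Nat.card (Subgroup.centralizer ({y} : Set G))) ∣
          roots y a) → Nat.gcd a (Nat.card G) ∣ roots c (a * b) := by
        intro a b h
        have := dvd_card_pow_mem a (fun y : G => y ^ b = c) (fun y g hy => by
          rw [← MulAut.conj_apply, ← map_pow, hy, MulAut.conj_apply]
          rw [(Subgroup.mem_centralizer_singleton_iff.mp (hc ▸ Subgroup.mem_top g) : g * c = c * g),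
            mul_inv_cancel_right]) (fun y _ => h y)
        refine this.trans (dvd_of_eq (Nat.card_congr (Equiv.subtypeEquivRight fun x => ?_)))
        rw [pow_mul]
      refine Nat.Coprime.mul_dvd_of_dvd_of_dvd ?_ ?_ ?_
      · exact Nat.Coprime.coprime_dvd_left (Nat.gcd_dvd_right _ _)
          (Nat.Coprime.coprime_dvd_right (Nat.gcd_dvd_right _ _) hab)
      · rw [Nat.gcd_comm]; exact step a b iha
      · rw [Nat.gcd_comm, mul_comm a b]; exact step b a ihb

theorem gcd_dvd_roots {G : Type u} [Group G] [Finite G] (n : ℕ) (c : G) :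
    Nat.gcd n (Nat.card (Subgroup.centralizer ({c} : Set G))) ∣ roots c n :=
  gcd_dvd_roots_aux _ G le_rfl n c

/-- For a class set `S`, `gcd(n, |G|)` divides the number of `x` with `x ^ n ∈ S`. -/
theorem gcd_dvd_card_pow_mem {G : Type u} [Group G] [Finite G] (n : ℕ) (S : G → Prop)
    (hS : ∀ y g : G, S y → S (g * y * g⁻¹)) :
    Nat.gcd n (Nat.card G) ∣ Nat.card {x : G // S (x ^ n)} :=
  dvd_card_pow_mem n S hS fun y _ => gcd_dvd_roots n y

end CfsgLib.Frobenius
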