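import Cfsg.Agent.Lib.Frobenius.OrbitBasis

/-!
# Modules free over a complement acting freely on an abelian normal section
-/

set_option autoImplicit false

namespace CfsgLib.FrobeniusFree

open scoped BigOperators

universe u v w

variable {k : Type u} {V : Type v} {A : Type w} [Field k] [AddCommGroup V] [Module k V]
  [Group A]

/-- `X` is freely generated, over the elements of `H`, by a subspace. -/
def FreeOn (ρ : A →* Module.End k V) (H : Subgroup A) [Fintype H] (X : Submodule k V) : Prop :=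
  ∃ W : Submodule k V, W ≤ X ∧
    (∀ v ∈ X, ∃ w : H → V, (∀ h, w h ∈ W) ∧ ∑ h : H, ρ (h : A) (w h) = v) ∧
    ∀ w : H → V, (∀ h, w h ∈ W) → ∑ h : H, ρ (h : A) (w h) = 0 → ∀ h, w h = 0

theorem freeOn_bot (ρ : A →* Module.End k V) (H : Subgroup A) [Fintype H] : FreeOn ρ H ⊥ :=
  ⟨⊥, le_rfl, fun v hv => ⟨fun _ => 0, fun _ => zero_mem _, by simp [(Submodule.mem_bot k).mp hv]⟩,
    fun _ hw _ h => (Submodule.mem_bot k).mp (hw h)⟩

theorem freeOn_sup {ρ : A →* Module.End k V} {H : Subgroup A} [Fintype H] {X Y : Submodule k V}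
    (hX : FreeOn ρ H X) (hY : FreeOn ρ H Y) (hXi : ∀ h ∈ H, ∀ v ∈ X, ρ h v ∈ X)
    (hYi : ∀ h ∈ H, ∀ v ∈ Y, ρ h v ∈ Y) (hd : Disjoint X Y) : FreeOn ρ H (X ⊔ Y) := by
  obtain ⟨W, hWX, hWs, hWu⟩ := hX
  obtain ⟨U, hUY, hUs, hUu⟩ := hY
  refine ⟨W ⊔ U, sup_le_sup hWX hUY, fun v hv => ?_, fun w hw h0 => ?_⟩
  · obtain ⟨x, hx, y, hy, rfl⟩ := Submodule.mem_sup.mp hv
    obtain ⟨a, ha, rfl⟩ := hWs x hx
    obtain ⟨b, hb, rfl⟩ := hUs y hy
    exact ⟨fun h => a h + b h, fun h => Submodule.mem_sup.mpr ⟨_, ha h, _, hb h, rfl⟩,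
      by simp [Finset.sum_add_distrib]⟩
  · choose a ha b hb hab using fun h => Submodule.mem_sup.mp (hw h)
    simp only [← hab, map_add, Finset.sum_add_distrib] at h0
    have hxX : ∑ h : H, ρ (h : A) (a h) ∈ X := Submodule.sum_mem _ fun h _ => hXi _ h.2 _ (hWX (ha h))
    have hyY : ∑ h : H, ρ (h : A) (b h) ∈ Y := Submodule.sum_mem _ fun h _ => hYi _ h.2 _ (hUY (hb h))
    have hx0 : ∑ h : H, ρ (h : A) (a h) = 0 :=
      Submodule.disjoint_def.mp hd _ hxX (by
        rw [eq_neg_of_add_eq_zero_left h0]; exact Y.neg_mem hyY)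
    rw [hx0, zero_add] at h0
    intro h
    rw [← hab h, hWu a ha hx0 h, hUu b hb h0 h, add_zero]

variable [FiniteDimensional k V]

omit [FiniteDimensional k V] in
theorem conj_end (ρ : A →* Module.End k V) (g z : A) :
    ρ g * ρ z * ρ g⁻¹ = ρ (g * z * g⁻¹) := by
  rw [map_mul, map_mul]

/-- The subalgebra generated by the image of a subgroup. -/
abbrev imageAlg (ρ : A →* Module.End k V) (Z : Subgroup A) : Subalgebra k (Module.End k V) :=
  Algebra.adjoin k (Set.range fun z : Z => ρ (z : A))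

omit [FiniteDimensional k V] in
theorem conj_mem_imageAlg (ρ : A →* Module.End k V) (Z : Subgroup A) [hZ : Z.Normal] (g : A)
    {e : Module.End k V} (he : e ∈ imageAlg ρ Z) : ρ g * e * ρ g⁻¹ ∈ imageAlg ρ Z := by
  have hinv : ρ g⁻¹ * ρ g = 1 := by rw [← map_mul, inv_mul_cancel, map_one]
  induction he using Algebra.adjoin_induction with
  | mem x hx =>
    obtain ⟨z, rfl⟩ := hx
    exact Algebra.subset_adjoin ⟨⟨_, hZ.conj_mem _ z.2 g⟩, (conj_end ρ g z).symm⟩
  | algebraMap c =>
    rw [← Algebra.commutes c (ρ g), mul_assoc, ← map_mul, mul_inv_cancel, map_one, mul_one]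
    exact Subalgebra.algebraMap_mem _ c
  | add x y _ _ hx hy => rw [mul_add, add_mul]; exact add_mem hx hy
  | mul x y _ _ hx hy =>
    have : ρ g * (x * y) * ρ g⁻¹ = ρ g * x * ρ g⁻¹ * (ρ g * y * ρ g⁻¹) := by
      simp only [mul_assoc]
      rw [← mul_assoc (ρ g⁻¹) (ρ g), hinv, one_mul]
    rw [this]
    exact mul_mem hx hy

/-- A space on which a normal subgroup with commutative image has no fixed vector is free over a
complement acting without fixed points on it. -/
theorem freeOn_top (ρ : A →* Module.End k V) (Z H : Subgroup A) [hZn : Z.Normal] [Fintype Z]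
    [Fintype H] (hcomm : ∀ y ∈ Z, ∀ z ∈ Z, ρ y * ρ z = ρ z * ρ y)
    (hcard : (Nat.card Z : k) ≠ 0) (hfix : ∀ v : V, (∀ z ∈ Z, ρ z v = v) → v = 0)
    (hfpf : ∀ h ∈ H, h ≠ 1 → ∀ z ∈ Z, h * z * h⁻¹ = z → z = 1) : FreeOn ρ H ⊤ := by
  classical
  haveI : IsMulCommutative (imageAlg ρ Z) := Algebra.isMulCommutative_adjoin k (by
    rintro _ ⟨y, rfl⟩ _ ⟨z, rfl⟩
    exact hcomm _ y.2 _ z.2)
  let E := imageAlg ρ Z
  letI : CommRing E := { (inferInstance : Ring E) with
    mul_comm := fun a b => IsMulCommutative.is_comm.comm a b }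
  haveI : IsArtinianRing E := IsArtinianRing.of_finite k E
  letI : MulSemiringAction H E :=
    { smul := fun h e => ⟨ρ (h : A) * e.1 * ρ (h : A)⁻¹, conj_mem_imageAlg ρ Z _ e.2⟩
      one_smul := fun e => Subtype.ext (by
        show ρ ((1 : H) : A) * e.1 * ρ ((1 : H) : A)⁻¹ = e.1
        simp)
      mul_smul := fun a b e => Subtype.ext (by
        show ρ ((a * b : H) : A) * e.1 * ρ ((a * b : H) : A)⁻¹ =
          ρ (a : A) * (ρ (b : A) * e.1 * ρ (b : A)⁻¹) * ρ (a : A)⁻¹
        simp [mul_assoc])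
      smul_zero := fun h => Subtype.ext (by
        show ρ (h : A) * (0 : Module.End k V) * ρ (h : A)⁻¹ = 0
        simp)
      smul_add := fun h a b => Subtype.ext (by
        show ρ (h : A) * (a.1 + b.1) * ρ (h : A)⁻¹ =
          ρ (h : A) * a.1 * ρ (h : A)⁻¹ + ρ (h : A) * b.1 * ρ (h : A)⁻¹
        rw [mul_add, add_mul])
      smul_one := fun h => Subtype.ext (by
        show ρ (h : A) * (1 : Module.End k V) * ρ (h : A)⁻¹ = 1
        rw [mul_one, ← map_mul, mul_inv_cancel, map_one])
      smul_mul := fun h a b => Subtype.ext (by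
        show ρ (h : A) * (a.1 * b.1) * ρ (h : A)⁻¹ =
          ρ (h : A) * a.1 * ρ (h : A)⁻¹ * (ρ (h : A) * b.1 * ρ (h : A)⁻¹)
        simp only [mul_assoc]
        rw [← mul_assoc (ρ (h : A)⁻¹) (ρ (h : A)), ← map_mul, inv_mul_cancel, map_one, one_mul]) }
  have hsmul : ∀ (h : H) (e : E), ((h • e : E) : Module.End k V) =
      ρ (h : A) * e.1 * ρ (h : A)⁻¹ := fun _ _ => rfl
  have hτ : ∀ (h : H) (e : E) (x : V), ρ (h : A) (e.1 x) = (h • e : E).1 (ρ (h : A) x) := by
    intro h e x
    rw [hsmul, ← Module.End.mul_apply, ← Module.End.mul_apply]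
    congr 1
    rw [mul_assoc (ρ (h : A) * e.1), ← map_mul, inv_mul_cancel, map_one, mul_one]
  -- no element of `H` acts trivially on a residue field
  have hfree : ∀ m : Ideal E, m.IsMaximal → ∀ h : H, h ≠ 1 → ∃ e, h • e - e ∉ m := by
    intro m hm h hh
    by_contra hall
    push Not at hall
    let zb : Z → E := fun z => ⟨ρ (z : A), Algebra.subset_adjoin ⟨z, rfl⟩⟩
    let ψ : Z → Z := fun z => ⟨(h : A) * z * (h : A)⁻¹ * (z : A)⁻¹,
      Z.mul_mem (hZn.conj_mem _ z.2 _) (Z.inv_mem z.2)⟩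
    have hψ : Function.Injective ψ := by
      intro a b hab
      have h1 : (h : A) * a * (h : A)⁻¹ * (a : A)⁻¹ = (h : A) * b * (h : A)⁻¹ * (b : A)⁻¹ :=
        congrArg Subtype.val hab
      have h2 : (h : A) * ((b : A)⁻¹ * a) * (h : A)⁻¹ = (b : A)⁻¹ * a := by
        calc (h : A) * ((b : A)⁻¹ * a) * (h : A)⁻¹
            = ((h : A) * b * (h : A)⁻¹)⁻¹ *
              ((h : A) * a * (h : A)⁻¹ * (a : A)⁻¹) * a := by group
          _ = _ := by rw [h1]; group
      exact Subtype.ext (inv_mul_eq_one.mp (hfpf _ h.2 (fun h0 => hh (Subtype.ext h0)) _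
        (Z.mul_mem (Z.inv_mem b.2) a.2) h2)).symm
    have hψm : ∀ z, zb (ψ z) - 1 ∈ m := fun z => by
      have h1 : zb (ψ z) - 1 = (h • zb z - zb z) * zb z⁻¹ := by
        refine Subtype.ext ?_
        show ρ ((h : A) * z * (h : A)⁻¹ * (z : A)⁻¹) - 1 =
          (ρ (h : A) * ρ (z : A) * ρ (h : A)⁻¹ - ρ (z : A)) * ρ ((z⁻¹ : Z) : A)
        rw [sub_mul, Subgroup.coe_inv, ← map_mul, ← map_mul, ← map_mul, ← map_mul, mul_inv_cancel,
          map_one]
      rw [h1]
      exact m.mul_mem_right _ (hall _)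
    have hzero : ∑ z, zb z = 0 := by
      refine Subtype.ext (LinearMap.ext fun v => hfix _ fun y hy => ?_)
      rw [AddSubmonoidClass.coe_finsetSum, LinearMap.sum_apply, map_sum]
      refine Fintype.sum_equiv (Equiv.mulLeft (⟨y, hy⟩ : Z)) _ _ fun z => ?_
      show ρ y (ρ (z : A) v) = ρ (y * (z : A)) v
      rw [map_mul, Module.End.mul_apply]
    have hsum : ∑ z, (zb z - 1) ∈ m := Submodule.sum_mem _ fun z _ => by
      obtain ⟨a, rfl⟩ := Finite.surjective_of_injective hψ z
      exact hψm a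
    rw [Finset.sum_sub_distrib, hzero, zero_sub, Finset.sum_const, Finset.card_univ,
      nsmul_eq_mul, mul_one, neg_mem_iff, ← Nat.card_eq_fintype_card] at hsum
    have hu : IsUnit ((Nat.card Z : ℕ) : E) := by
      rw [← map_natCast (algebraMap k E)]
      exact (isUnit_iff_ne_zero.mpr hcard).map _
    exact hm.ne_top (Ideal.eq_top_of_isUnit_mem _ hsum hu)
  obtain ⟨e, he⟩ := FrobeniusOrbit.exists_isUnit_det_orbit hfree
  set M := Matrix.of fun g h : H => (g * h) • e with hM
  have hMM : M⁻¹ * M = 1 := Matrix.nonsing_inv_mul M he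
  have hMM' : M * M⁻¹ = 1 := Matrix.mul_nonsing_inv M he
  -- matrices over `E` act on families of vectors
  let act : Matrix H H E → (H → V) → H → V := fun P u g => ∑ h, (P g h).1 (u h)
  have act_mul : ∀ (P Q : Matrix H H E) (u : H → V), act P (act Q u) = act (P * Q) u := by
    intro P Q u
    funext g
    simp only [act, map_sum, Matrix.mul_apply, AddSubmonoidClass.coe_finsetSum,
      LinearMap.sum_apply, MulMemClass.coe_mul, Module.End.mul_apply]
    exact Finset.sum_comm
  have act_one : ∀ u : H → V, act 1 u = u := by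
    intro u
    funext g
    show ∑ h : H, ((1 : Matrix H H E) g h).1 (u h) = u g
    rw [Finset.sum_eq_single g (fun h _ hne => by
      rw [Matrix.one_apply_ne' hne]; rfl) (fun h0 => absurd (Finset.mem_univ g) h0),
      Matrix.one_apply_eq]
    rfl
  have act_inj : ∀ u u' : H → V, act M u = act M u' → u = u' := fun u u' h => by
    rw [← act_one u, ← hMM, ← act_mul, h, act_mul, hMM, act_one]
  -- the fixed points of `H` and the generating subspace
  let F : Submodule k V :=
    { carrier := {x | ∀ h : H, ρ (h : A) x = x}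
      zero_mem' := fun h => map_zero _
      add_mem' := fun {a b} ha hb h => by rw [map_add, ha h, hb h]
      smul_mem' := fun c x hx h => by rw [map_smul, hx h] }
  have hgen : ∀ (h : H), ∀ x ∈ F, ρ (h : A) (e.1 x) = (h • e : E).1 x := fun h x hx => by
    rw [hτ, hx h]
  have hshift : ∀ (g : H) (x : H → V), (∀ h, x h ∈ F) →
      ρ (g : A) (∑ h : H, (h • e : E).1 (x h)) = act M x g := by
    intro g x hx
    rw [map_sum]
    refine Finset.sum_congr rfl fun h _ => ?_
    rw [hτ, hx h g, ← mul_smul]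
    rfl
  refine ⟨F.map e.1, le_top, fun v _ => ?_, fun w hw h0 => ?_⟩
  · let u : H → V := fun g => ρ (g : A) v
    let x : H → V := act M⁻¹ u
    have hu : act M x = u := by rw [act_mul, hMM', act_one]
    have hx : ∀ h, x h ∈ F := by
      intro h a
      have h1 : act M (fun h => ρ (a : A) (x h)) = act M x := by
        funext g
        have h2 : act M x g = ρ (a : A) (act M x (a⁻¹ * g)) := by
          rw [hu]
          show ρ (g : A) v = ρ (a : A) (ρ ((a⁻¹ * g : H) : A) v)
          rw [← Module.End.mul_apply, ← map_mul, Subgroup.coe_mul, Subgroup.coe_inv,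
            mul_inv_cancel_left]
        rw [h2]
        simp only [act, map_sum]
        refine Finset.sum_congr rfl fun h _ => ?_
        rw [hτ, hM, Matrix.of_apply, Matrix.of_apply, ← mul_smul, ← mul_assoc, mul_inv_cancel_left]
      exact congrFun (act_inj _ _ h1) h
    refine ⟨fun h => e.1 (x h), fun h => Submodule.mem_map_of_mem (hx h), ?_⟩
    have h3 := congrFun hu 1
    simp only [u, OneMemClass.coe_one, map_one, Module.End.one_apply] at h3
    rw [← h3]
    refine Finset.sum_congr rfl fun h _ => ?_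
    rw [hgen h _ (hx h), hM, Matrix.of_apply, one_mul]
  · choose x hx hxw using fun h => Submodule.mem_map.mp (hw h)
    have h1 : act M x = act M 0 := by
      funext g
      rw [← hshift g x hx, Finset.sum_congr rfl fun h _ => (hgen h _ (hx h)).symm,
        Finset.sum_congr rfl fun (h : H) _ => congrArg (ρ (h : A)) (hxw h), h0, map_zero]
      exact (Finset.sum_eq_zero fun h _ => map_zero _).symm
    intro h
    rw [← hxw h, congrFun (act_inj _ _ h1) h, Pi.zero_apply, map_zero]

end CfsgLib.FrobeniusFree
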