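import Cfsg.Agent.Lib.Frobenius.Kulakoff

/-!
Hall's congruence: the subgroups of order `p ^ a` of a finite group, modulo `p ^ 2`.
-/

set_option autoImplicit false
set_option linter.style.haveILetI false

open scoped Pointwise

namespace CfsgLib.Kulakoff

variable {p : ℕ} [hp : Fact p.Prime]

section Orbits

omit hp in
theorem sum_eq_zero_of_orbits {A X R : Type*} [Group A] [MulAction A X] [Finite X] [CommRing R]
    [DecidableEq X] (s : Finset X) (f : X → R) (hs : ∀ (g : A) (x : X), x ∈ s → g • x ∈ s)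
    (hf : ∀ (g : A) (x : X), x ∈ s → f (g • x) = f x)
    (h0 : ∀ x ∈ s, (Nat.card (MulAction.orbit A x) : R) * f x = 0) : ∑ x ∈ s, f x = 0 := by
  classical
  haveI := Fintype.ofFinite X
  induction s using Finset.strongInduction with
  | H s ih =>
    rcases s.eq_empty_or_nonempty with rfl | ⟨x, hx⟩
    · simp
    set o := (MulAction.orbit A x).toFinset with ho
    have hos : o ⊆ s := fun y hy => by
      rw [ho, Set.mem_toFinset] at hy
      obtain ⟨g, rfl⟩ := hy
      exact hs g x hx
    rw [← Finset.sum_sdiff hos, ih (s \ o) ?_ ?_ ?_ ?_, zero_add,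
      Finset.sum_congr rfl (g := fun _ => f x) fun y hy => by
        rw [ho, Set.mem_toFinset] at hy
        obtain ⟨g, rfl⟩ := hy
        exact hf g x hx,
      Finset.sum_const, nsmul_eq_mul, ho, Set.toFinset_card, ← Nat.card_eq_fintype_card]
    · exact h0 x hx
    · exact Finset.sdiff_ssubset hos ⟨x, by rw [ho, Set.mem_toFinset]; exact MulAction.mem_orbit_self x⟩
    · intro g y hy
      rw [Finset.mem_sdiff, ho, Set.mem_toFinset] at hy ⊢
      refine ⟨hs g y hy.1, fun h => hy.2 ?_⟩
      obtain ⟨g', hg'⟩ := h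
      exact ⟨g⁻¹ * g', by simp only [mul_smul]; rw [show g' • x = g • y from hg', inv_smul_smul]⟩
    · exact fun g y hy => hf g y (Finset.mem_sdiff.mp hy).1
    · exact fun y hy => h0 y (Finset.mem_sdiff.mp hy).1

end Orbits

variable {G : Type*} [Group G] [Finite G]

/-- Conjugation of the subgroups by a subgroup. -/
@[implicit_reducible] def conjAction (P : Subgroup G) : MulAction P (Subgroup G) :=
  MulAction.compHom (Subgroup G) ((MulAut.conj (G := G)).comp P.subtype)

omit [Finite G] in
theorem smul_eq (P : Subgroup G) (g : P) (H : Subgroup G) :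
    (letI := conjAction P; g • H) = MulAut.conj (g : G) • H := rfl

omit [Finite G] in
theorem conj_smul_eq_iff {g : G} {H : Subgroup G} :
    MulAut.conj g • H = H ↔ g ∈ Subgroup.normalizer (H : Set G) := by
  rw [Subgroup.mem_normalizer_iff]
  constructor
  · intro h x
    conv_rhs => rw [← h]
    exact (Subgroup.smul_mem_pointwise_smul_iff (a := MulAut.conj g) (x := x)).symm
  · intro h
    ext x
    constructor
    · intro hx
      obtain ⟨y, hy, rfl⟩ := hx
      exact (h y).mp hy
    · intro hx
      refine ⟨g⁻¹ * x * g, (h _).mpr (by simpa [mul_assoc] using hx), ?_⟩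
      show g * (g⁻¹ * x * g) * g⁻¹ = x
      group

omit [Finite G] in
theorem mem_normalizer_smul {g u : G} {H : Subgroup G} :
    g * u * g⁻¹ ∈ Subgroup.normalizer ((MulAut.conj g • H : Subgroup G) : Set G) ↔
      u ∈ Subgroup.normalizer (H : Set G) := by
  rw [← conj_smul_eq_iff, ← conj_smul_eq_iff, ← mul_smul]
  conv_lhs => lhs; rw [← map_mul, show g * u * g⁻¹ * g = g * u by group, map_mul, mul_smul]
  exact smul_left_cancel_iff _

theorem card_orbit (P : Subgroup G) (hP : IsPGroup p P) (H : Subgroup G) :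
    letI := conjAction P
    Nat.card (MulAction.orbit P H) = (Subgroup.normalizer (H : Set G)).relIndex P ∧
      ∃ k, Nat.card (MulAction.orbit P H) = p ^ k := by
  letI := conjAction P
  have h1 : MulAction.stabilizer P H = (Subgroup.normalizer (H : Set G)).subgroupOf P := by
    ext g
    rw [MulAction.mem_stabilizer_iff, Subgroup.mem_subgroupOf]
    exact conj_smul_eq_iff
  have h2 : Nat.card (MulAction.orbit P H) = (Subgroup.normalizer (H : Set G)).relIndex P := by
    rw [Nat.card_coe_set_eq, ← MulAction.index_stabilizer, h1]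
    rfl
  obtain ⟨k, hk⟩ := hP.index ((Subgroup.normalizer (H : Set G)).subgroupOf P)
  exact ⟨h2, k, h2.trans hk⟩

open Finset in
/-- Modulo `p ^ 2` only the subgroups normalized by a subgroup of index at most `p` count. -/
theorem card_split (P : Subgroup G) (hP : IsPGroup p P) (s : Finset (Subgroup G))
    (hs : ∀ g ∈ P, ∀ H ∈ s, MulAut.conj g • H ∈ s)
    [DecidablePred fun H : Subgroup G => (Subgroup.normalizer (H : Set G)).relIndex P ∣ p] :
    (s.card : ZMod (p ^ 2)) =
      ((s.filter fun H : Subgroup G => (Subgroup.normalizer (H : Set G)).relIndex P ∣ p).card : ZMod (p ^ 2)) := by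
  classical
  letI := conjAction P
  conv_lhs => rw [← card_filter_add_card_filter_not
    (fun H : Subgroup G => (Subgroup.normalizer (H : Set G)).relIndex P ∣ p), Nat.cast_add]
  rw [add_eq_left, card_eq_sum_ones, Nat.cast_sum]
  refine sum_eq_zero_of_orbits (A := P) _ _ ?_ (fun _ _ _ => rfl) ?_
  · intro g H hH
    rw [mem_filter] at hH ⊢
    refine ⟨hs g g.2 H hH.1, fun h => hH.2 ?_⟩
    rwa [← (card_orbit P hP _).1, MulAction.orbit_smul, (card_orbit P hP _).1] at h
  · intro H hH
    obtain ⟨h1, k, hk⟩ := card_orbit P hP H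
    have hk2 : 2 ≤ k := by
      by_contra hk2
      refine (mem_filter.mp hH).2 ?_
      rw [← h1, hk]
      exact (pow_dvd_pow p (show k ≤ 1 by omega)).trans (pow_one p).dvd
    rw [hk, show k = 2 + (k - 2) by omega, pow_add, Nat.cast_mul, ZMod.natCast_self, zero_mul,
      zero_mul]

omit [Finite G] in
theorem card_eq_countIn {P : Subgroup G} (a : ℕ) :
    Nat.card {H : Subgroup G // Nat.card H = p ^ a ∧ H ≤ P} =
      Nat.card {H : Subgroup P // Nat.card H = p ^ a} := by
  refine Nat.card_congr
    { toFun := fun H => ⟨H.1.subgroupOf P, ?_⟩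
      invFun := fun H => ⟨H.1.map P.subtype, ?_, Subgroup.map_subtype_le _⟩
      left_inv := fun H => Subtype.ext ?_
      right_inv := fun H => Subtype.ext ?_ }
  · rw [Nat.card_congr (Subgroup.subgroupOfEquivOfLe H.2.2).toEquiv]; exact H.2.1
  · rw [Subgroup.card_map_of_injective (Subgroup.subtype_injective _)]; exact H.2
  · exact Subgroup.map_subgroupOf_eq_of_le H.2.2
  · exact Subgroup.comap_map_eq_self_of_injective P.subtype_injective H.1

open Finset in
/-- In a `p`-group `Q` with maximal subgroup `M`, the normal subgroups of a given order outside `M`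
number `0` modulo `p`. -/
theorem normal_outside (Q M : Subgroup G) (hQ : IsPGroup p Q) (hMQ : M ≤ Q)
    (hM : M.relIndex Q = p) (a : ℕ) (ha : p ^ a ∣ Nat.card M) [Fintype (Subgroup G)]
    [DecidablePred fun H : Subgroup G =>
      Nat.card H = p ^ a ∧ H ≤ Q ∧ Q ≤ Subgroup.normalizer (H : Set G) ∧ ¬ H ≤ M] :
    (p : ZMod (p ^ 2)) * ((univ.filter fun H : Subgroup G =>
      Nat.card H = p ^ a ∧ H ≤ Q ∧ Q ≤ Subgroup.normalizer (H : Set G) ∧ ¬ H ≤ M).card :
        ZMod (p ^ 2)) = 0 := by
  classical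
  letI := conjAction Q
  have hMn : ∀ g ∈ Q, MulAut.conj g • M = M := by
    intro g hg
    obtain ⟨k, hk⟩ := IsPGroup.iff_card.mp hQ
    have hi : (M.subgroupOf Q).index = p := hM
    have hk0 : k ≠ 0 := by
      rintro rfl
      have h1 := (M.subgroupOf Q).index_dvd_card
      rw [hi, hk, pow_zero] at h1
      exact hp.out.not_dvd_one h1
    have hn : (M.subgroupOf Q).Normal := Subgroup.normal_of_index_eq_minFac_card
      (by rw [hi, hk, Nat.Prime.pow_minFac hp.out hk0])
    rw [conj_smul_eq_iff]
    refine (Subgroup.normal_subgroupOf_iff_le_normalizer hMQ).mp hn hg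
  have hQg : ∀ g ∈ Q, MulAut.conj g • Q = Q := fun g hg =>
    conj_smul_eq_iff.mpr (Subgroup.le_normalizer hg)
  set A := univ.filter fun H : Subgroup G => Nat.card H = p ^ a ∧ H ≤ Q with hA
  set B := univ.filter fun H : Subgroup G => Nat.card H = p ^ a ∧ H ≤ M with hB
  -- modulo `p` only normal subgroups count
  have hfix : ∀ s : Finset (Subgroup G), (∀ g ∈ Q, ∀ H ∈ s, MulAut.conj g • H ∈ s) →
      (p : ZMod (p ^ 2)) * s.card =
        p * (s.filter fun H : Subgroup G => Q ≤ Subgroup.normalizer (H : Set G)).card := by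
    intro s hs
    conv_lhs => rw [← card_filter_add_card_filter_not
      (fun H : Subgroup G => Q ≤ Subgroup.normalizer (H : Set G)), Nat.cast_add, mul_add]
    rw [add_eq_left, card_eq_sum_ones, Nat.cast_sum, mul_sum]
    refine sum_eq_zero_of_orbits (A := Q) _ _ ?_ (fun _ _ _ => rfl) ?_
    · intro g H hH
      rw [mem_filter] at hH ⊢
      refine ⟨hs g g.2 H hH.1, fun h => hH.2 ?_⟩
      rw [← Subgroup.relIndex_eq_one, ← (card_orbit Q hQ _).1] at h ⊢
      rwa [MulAction.orbit_smul] at h
    · intro H hH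
      obtain ⟨h1, k, hk⟩ := card_orbit Q hQ H
      have hk1 : 1 ≤ k := by
        by_contra hk1
        refine (mem_filter.mp hH).2 (Subgroup.relIndex_eq_one.mp ?_)
        rw [← h1, hk, show k = 0 by omega, pow_zero]
      rw [hk, show k = 1 + (k - 1) by omega, pow_add, pow_one, Nat.cast_mul, Nat.cast_one, mul_one,
        mul_comm ((p : ZMod (p ^ 2))) ((p ^ (k - 1) : ℕ) : ZMod (p ^ 2)), mul_assoc, p_sq, mul_zero]
  have hinv : ∀ K : Subgroup G, (∀ g ∈ Q, MulAut.conj g • K = K) → ∀ g ∈ Q,
      ∀ H ∈ univ.filter (fun H : Subgroup G => Nat.card H = p ^ a ∧ H ≤ K),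
        MulAut.conj g • H ∈ univ.filter (fun H : Subgroup G => Nat.card H = p ^ a ∧ H ≤ K) := by
    intro K hK g hg H hH
    rw [mem_filter] at hH ⊢
    refine ⟨mem_univ _, ?_, hK g hg ▸ Subgroup.pointwise_smul_le_pointwise_smul_iff.mpr hH.2.2⟩
    rw [← hH.2.1]
    exact (Nat.card_congr ((MulAut.conj g).subgroupMap H).toEquiv).symm
  have hone : ∀ K : Subgroup G, p ^ a ∣ Nat.card K →
      (p : ZMod (p ^ 2)) * ((univ.filter fun H : Subgroup G => Nat.card H = p ^ a ∧ H ≤ K).card :
        ZMod (p ^ 2)) = p := by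
    intro K hK
    rw [← Fintype.card_subtype, ← Nat.card_eq_fintype_card, card_eq_countIn,
      natCast_modEq (CfsgLib.Frobenius.card_subgroups_modEq_one hp.out (G := K) a hK),
      Nat.cast_one, mul_one]
  have h1 := hfix A (hinv Q hQg)
  have h2 := hfix B (hinv M hMn)
  rw [hA, hone Q (ha.trans (Subgroup.card_dvd_of_le hMQ))] at h1
  rw [hB, hone M ha] at h2
  set A' := A.filter fun H : Subgroup G => Q ≤ Subgroup.normalizer (H : Set G)
  have hsplit : A'.card = (B.filter fun H : Subgroup G => Q ≤ Subgroup.normalizer (H : Set G)).card +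
      (univ.filter fun H : Subgroup G =>
        Nat.card H = p ^ a ∧ H ≤ Q ∧ Q ≤ Subgroup.normalizer (H : Set G) ∧ ¬ H ≤ M).card := by
    rw [← card_filter_add_card_filter_not (s := A') (fun H : Subgroup G => H ≤ M)]
    congr 2
    · ext H
      simp only [A', hA, hB, mem_filter, mem_univ, true_and]
      exact ⟨fun h => ⟨⟨h.1.1.1, h.2⟩, h.1.2⟩, fun h => ⟨⟨⟨h.1.1, h.1.2.trans hMQ⟩, h.2⟩, h.1.2⟩⟩
    · ext H
      simp only [A', hA, mem_filter, mem_univ, true_and]
      exact ⟨fun h => ⟨h.1.1.1, h.1.1.2, h.1.2, h.2⟩, fun h => ⟨⟨⟨h.1, h.2.1⟩, h.2.2.1⟩, h.2.2.2⟩⟩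
  rw [hsplit, Nat.cast_add, mul_add, ← h2] at h1
  exact (add_eq_left.mp h1.symm)

open Finset in
/-- Hall: modulo `p ^ 2` the count in `G` is the count in a Sylow `p`-subgroup. -/
theorem hall_count {a : ℕ} (hdvd : p ^ (a + 1) ∣ Nat.card G) (P : Sylow p G) :
    (Nat.card {H : Subgroup G // Nat.card H = p ^ a} : ZMod (p ^ 2)) =
      Nat.card {H : Subgroup P // Nat.card H = p ^ a} := by
  classical
  haveI := Fintype.ofFinite (Subgroup G)
  obtain ⟨N, hN⟩ := IsPGroup.iff_card.mp P.2
  have haN : a + 1 ≤ N := by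
    refine (Nat.pow_dvd_pow_iff_le_right hp.out.one_lt).mp ?_
    rw [← hN, P.card_eq_multiplicity]
    exact pow_dvd_pow p (((hp.out.pow_dvd_iff_le_factorization Nat.card_pos.ne')).mp hdvd)
  set S := univ.filter fun H : Subgroup G => Nat.card H = p ^ a with hS
  have hScard : Nat.card {H : Subgroup G // Nat.card H = p ^ a} = S.card := by
    rw [Nat.card_eq_fintype_card, Fintype.card_subtype]
  have hSin : Nat.card {H : Subgroup P // Nat.card H = p ^ a} =
      (S.filter fun H => H ≤ (P : Subgroup G)).card := by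
    rw [← card_eq_countIn, hS, filter_filter, Nat.card_eq_fintype_card, Fintype.card_subtype]
  rw [hScard, hSin, ← card_filter_add_card_filter_not (s := S) (fun H => H ≤ (P : Subgroup G)),
    Nat.cast_add, add_eq_left]
  set O := S.filter fun H => ¬ H ≤ (P : Subgroup G) with hO
  have hOs : ∀ g ∈ (P : Subgroup G), ∀ H ∈ O, MulAut.conj g • H ∈ O := by
    intro g hg H hH
    simp only [hO, hS, mem_filter, mem_univ, true_and] at hH ⊢
    refine ⟨?_, fun h => hH.2 ?_⟩
    · rw [← hH.1]
      exact (Nat.card_congr ((MulAut.conj g).subgroupMap H).toEquiv).symm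
    · rw [← conj_smul_eq_iff.mpr (Subgroup.le_normalizer hg),
        Subgroup.pointwise_smul_le_pointwise_smul_iff] at h
      exact h
  rw [card_split (P : Subgroup G) P.2 O hOs]
  set T := O.filter fun H : Subgroup G => (Subgroup.normalizer (H : Set G)).relIndex P ∣ p with hT
  -- the index of the stabilizer is exactly `p`
  have hidx : ∀ H ∈ T, ((P : Subgroup G) ⊓ Subgroup.normalizer (H : Set G)).relIndex P = p := by
    intro H hH
    simp only [hT, hO, hS, mem_filter, mem_univ, true_and] at hH
    rw [Subgroup.inf_relIndex_left]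
    refine ((Nat.dvd_prime hp.out).mp hH.2).resolve_left fun h1 => hH.1.2 ?_
    have hPN := Subgroup.relIndex_eq_one.mp h1
    have hsup : IsPGroup p ↥(H ⊔ (P : Subgroup G)) :=
      (IsPGroup.of_card hH.1.1).to_sup_of_normal_left' P.2 hPN
    rw [← P.3 hsup le_sup_right]
    exact le_sup_left
  set F : Subgroup G → Subgroup G :=
    fun H => H ⊔ ((P : Subgroup G) ⊓ Subgroup.normalizer (H : Set G)) with hF
  have hprops : ∀ H ∈ T, Nat.card (F H) = p ^ N ∧
      F H ⊓ (P : Subgroup G) = (P : Subgroup G) ⊓ Subgroup.normalizer (H : Set G) ∧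
      F H ≤ Subgroup.normalizer (H : Set G) ∧ F H ≠ (P : Subgroup G) := by
    intro H hH
    have hH' := hH
    simp only [hT, hO, hS, mem_filter, mem_univ, true_and] at hH'
    set M := (P : Subgroup G) ⊓ Subgroup.normalizer (H : Set G)
    have hMi := hidx H hH
    have hsup : IsPGroup p ↥(F H) :=
      (IsPGroup.of_card hH'.1.1).to_sup_of_normal_left' (P.2.to_le inf_le_left) inf_le_right
    obtain ⟨i, hi⟩ := IsPGroup.iff_card.mp hsup
    obtain ⟨j, hj⟩ := IsPGroup.iff_card.mp (P.2.to_le (inf_le_left : M ≤ P))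
    have hjN : j + 1 = N := by
      have h1 := Subgroup.relIndex_mul_relIndex ⊥ M (P : Subgroup G) bot_le inf_le_left
      rw [Subgroup.relIndex_bot_left, Subgroup.relIndex_bot_left, hMi, hj, hN, ← pow_succ] at h1
      exact Nat.pow_right_injective hp.out.two_le h1
    have hiN : i ≤ N := by
      obtain ⟨Q, hQ⟩ := hsup.exists_le_sylow
      refine (Nat.pow_dvd_pow_iff_le_right hp.out.one_lt).mp ?_
      rw [← hi, ← hN, P.card_eq_multiplicity, ← Q.card_eq_multiplicity]
      exact Subgroup.card_dvd_of_le hQ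
    have hji : j < i := by
      refine (Nat.pow_lt_pow_iff_right hp.out.one_lt).mp ?_
      rw [← hi, ← hj]
      by_contra hle
      have heq : M = F H := Subgroup.eq_of_le_of_card_ge le_sup_right (by rw [hj, hi] at *; omega)
      exact hH'.1.2 ((le_sup_left : H ≤ F H).trans (heq.symm.le.trans inf_le_left))
    have hne : F H ≠ (P : Subgroup G) := fun h => hH'.1.2 (h ▸ le_sup_left)
    refine ⟨by rw [hi]; congr 1; omega, ?_, sup_le Subgroup.le_normalizer inf_le_right, hne⟩
    refine le_antisymm ?_ (le_inf le_sup_right inf_le_left)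
    have hFN : F H ⊓ (P : Subgroup G) ≤ Subgroup.normalizer (H : Set G) :=
      inf_le_left.trans (sup_le Subgroup.le_normalizer inf_le_right)
    exact le_inf inf_le_right hFN
  rw [card_eq_sum_card_image F T, Nat.cast_sum]
  letI := conjAction (P : Subgroup G)
  refine sum_eq_zero_of_orbits (A := (P : Subgroup G)) _ _ ?_ ?_ ?_
  · intro g Q hQ
    obtain ⟨H, hH, rfl⟩ := mem_image.mp hQ
    refine mem_image.mpr ⟨MulAut.conj (g : G) • H, ?_, ?_⟩
    · rw [hT, mem_filter] at hH ⊢
      refine ⟨hOs g g.2 H hH.1, ?_⟩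
      have h1 := (card_orbit (P : Subgroup G) P.2 (MulAut.conj (g : G) • H)).1
      rw [← h1, show MulAut.conj (g : G) • H = g • H from rfl, MulAction.orbit_smul,
        (card_orbit (P : Subgroup G) P.2 H).1]
      exact hH.2
    · show F (MulAut.conj (g : G) • H) = MulAut.conj (g : G) • F H
      simp only [hF, Subgroup.smul_sup, Subgroup.smul_inf]
      congr 2
      · exact (conj_smul_eq_iff.mpr (Subgroup.le_normalizer g.2)).symm
      · ext u
        rw [Subgroup.mem_pointwise_smul_iff_inv_smul_mem]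
        conv_lhs => rw [show u = (g : G) * ((g : G)⁻¹ * u * g) * (g : G)⁻¹ by group]
        rw [mem_normalizer_smul]
        simp [MulAut.smul_def]
  · intro g Q hQ
    congr 1
    refine (card_bij (fun H _ => MulAut.conj (g : G) • H) ?_ ?_ ?_).symm
    · intro H hH
      rw [mem_filter] at hH ⊢
      obtain ⟨hHT, rfl⟩ := hH
      rw [hT, mem_filter] at hHT ⊢
      refine ⟨⟨hOs g g.2 H hHT.1, ?_⟩, ?_⟩
      · rw [← (card_orbit (P : Subgroup G) P.2 (MulAut.conj (g : G) • H)).1,
          show MulAut.conj (g : G) • H = g • H from rfl, MulAction.orbit_smul,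
          (card_orbit (P : Subgroup G) P.2 H).1]
        exact hHT.2
      · show F (MulAut.conj (g : G) • H) = MulAut.conj (g : G) • F H
        simp only [hF, Subgroup.smul_sup, Subgroup.smul_inf]
        congr 2
        · exact (conj_smul_eq_iff.mpr (Subgroup.le_normalizer g.2)).symm
        · ext u
          rw [Subgroup.mem_pointwise_smul_iff_inv_smul_mem]
          conv_lhs => rw [show u = (g : G) * ((g : G)⁻¹ * u * g) * (g : G)⁻¹ by group]
          rw [mem_normalizer_smul]
          simp [MulAut.smul_def]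
    · intro H _ K _ h
      exact MulAction.injective (MulAut.conj (g : G)) h
    · intro H hH
      rw [mem_filter] at hH
      obtain ⟨hHT, hFH⟩ := hH
      refine ⟨(MulAut.conj (g : G))⁻¹ • H, ?_, smul_inv_smul _ _⟩
      rw [mem_filter]
      rw [hT, mem_filter] at hHT ⊢
      have hgi : (MulAut.conj (g : G))⁻¹ = MulAut.conj ((g⁻¹ : (P : Subgroup G)) : G) := by
        rw [InvMemClass.coe_inv, map_inv]
      refine ⟨⟨?_, ?_⟩, ?_⟩
      · rw [hgi]; exact hOs _ (g⁻¹).2 H hHT.1
      · rw [hgi, ← (card_orbit (P : Subgroup G) P.2 _).1,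
          show MulAut.conj ((g⁻¹ : (P : Subgroup G)) : G) • H = g⁻¹ • H from rfl,
          MulAction.orbit_smul, (card_orbit (P : Subgroup G) P.2 H).1]
        exact hHT.2
      · refine MulAction.injective (MulAut.conj (g : G)) ?_
        show MulAut.conj (g : G) • F _ = MulAut.conj (g : G) • Q
        rw [show MulAut.conj (g : G) • Q = g • Q from rfl, ← hFH]
        simp only [hF, Subgroup.smul_sup, Subgroup.smul_inf, smul_inv_smul]
        congr 2
        · exact conj_smul_eq_iff.mpr (Subgroup.le_normalizer g.2)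
        · ext u
          rw [Subgroup.mem_pointwise_smul_iff_inv_smul_mem]
          conv_rhs => rw [show u = (g : G) * ((g : G)⁻¹ * u * g) * (g : G)⁻¹ by group,
            show H = MulAut.conj (g : G) • (MulAut.conj (g : G))⁻¹ • H from (smul_inv_smul _ _).symm]
          rw [mem_normalizer_smul]
          simp [MulAut.smul_def]
  · intro Q hQ
    obtain ⟨H₀, hH₀, hFQ⟩ := mem_image.mp hQ
    subst hFQ
    obtain ⟨hc, hinf, hnorm, hne⟩ := hprops H₀ hH₀
    obtain ⟨hpo, k, hk⟩ := card_orbit (P : Subgroup G) P.2 (F H₀)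
    have hQp : IsPGroup p ↥(F H₀) := IsPGroup.of_card hc
    have hk0 : 1 ≤ k := by
      by_contra hk0
      refine hne ?_
      have hPn : (P : Subgroup G) ≤ Subgroup.normalizer ((F H₀ : Subgroup G) : Set G) :=
        Subgroup.relIndex_eq_one.mp (by rw [← hpo, hk, show k = 0 by omega, pow_zero])
      have hsup := hQp.to_sup_of_normal_left' P.2 hPn
      refine Subgroup.eq_of_le_of_card_ge ((le_sup_left).trans_eq (P.3 hsup le_sup_right)) ?_
      rw [hc, hN]
    have hrel : ((F H₀) ⊓ (P : Subgroup G)).relIndex (F H₀) = p := by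
      have h1 := Subgroup.relIndex_mul_relIndex ⊥ (F H₀ ⊓ (P : Subgroup G)) (F H₀) bot_le inf_le_left
      have h2 := Subgroup.relIndex_mul_relIndex ⊥ (F H₀ ⊓ (P : Subgroup G)) (P : Subgroup G) bot_le
        inf_le_right
      have h3 : (F H₀ ⊓ (P : Subgroup G)).relIndex (P : Subgroup G) = p := by
        rw [hinf]; exact hidx H₀ hH₀
      simp only [Subgroup.relIndex_bot_left] at h1 h2
      rw [h3] at h2
      rw [hc, ← hN, ← h2] at h1
      exact Nat.eq_of_mul_eq_mul_left Nat.card_pos h1
    have hdiv : p ^ a ∣ Nat.card ↥(F H₀ ⊓ (P : Subgroup G)) := by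
      have h1 := Subgroup.relIndex_mul_relIndex ⊥ (F H₀ ⊓ (P : Subgroup G)) (F H₀) bot_le inf_le_left
      rw [Subgroup.relIndex_bot_left, Subgroup.relIndex_bot_left, hrel, hc,
        show N = N - 1 + 1 by omega, pow_succ] at h1
      rw [Nat.eq_of_mul_eq_mul_right hp.out.pos h1]
      exact pow_dvd_pow p (by omega)
    have hfib : (T.filter fun H => F H = F H₀) = univ.filter fun H : Subgroup G =>
        Nat.card H = p ^ a ∧ H ≤ F H₀ ∧ F H₀ ≤ Subgroup.normalizer (H : Set G) ∧
          ¬ H ≤ F H₀ ⊓ (P : Subgroup G) := by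
      ext H
      simp only [mem_filter, mem_univ, true_and]
      constructor
      · rintro ⟨hH, hFH⟩
        have hH' := hH
        simp only [hT, hO, hS, mem_filter, mem_univ, true_and] at hH'
        exact ⟨hH'.1.1, hFH ▸ le_sup_left, hFH ▸ (hprops H hH).2.2.1,
          fun h => hH'.1.2 (h.trans inf_le_right)⟩
      · rintro ⟨hHc, hHQ, hQN, hHM⟩
        have hHP : ¬ H ≤ (P : Subgroup G) := fun h => hHM (le_inf hHQ h)
        have hMN : F H₀ ⊓ (P : Subgroup G) ≤ (P : Subgroup G) ⊓ Subgroup.normalizer (H : Set G) :=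
          le_inf inf_le_right (inf_le_left.trans hQN)
        have hd : (Subgroup.normalizer (H : Set G)).relIndex (P : Subgroup G) ∣ p := by
          rw [← Subgroup.inf_relIndex_left]
          have h3 : (F H₀ ⊓ (P : Subgroup G)).relIndex (P : Subgroup G) = p := by
            rw [hinf]; exact hidx H₀ hH₀
          exact (Subgroup.relIndex_dvd_of_le_left _ hMN).trans h3.dvd
        have hHT : H ∈ T := by
          simp only [hT, hO, hS, mem_filter, mem_univ, true_and]
          exact ⟨⟨hHc, hHP⟩, hd⟩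
        refine ⟨hHT, ?_⟩
        have hMeq : (P : Subgroup G) ⊓ Subgroup.normalizer (H : Set G) =
            F H₀ ⊓ (P : Subgroup G) := by
          refine (le_antisymm hMN (Subgroup.relIndex_eq_one.mp ?_)).symm
          have h1 := Subgroup.relIndex_mul_relIndex _ _ (P : Subgroup G) hMN inf_le_left
          rw [hidx H hHT, show (F H₀ ⊓ (P : Subgroup G)).relIndex (P : Subgroup G) = p by
            rw [hinf]; exact hidx H₀ hH₀] at h1
          exact Nat.eq_of_mul_eq_mul_right hp.out.pos (h1.trans (one_mul p).symm)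
        show H ⊔ _ = F H₀
        refine Subgroup.eq_of_le_of_card_ge (sup_le hHQ (hMeq.le.trans inf_le_left)) ?_
        rw [hc, ← (hprops H hHT).1]
    have hz := normal_outside (F H₀) (F H₀ ⊓ (P : Subgroup G)) hQp inf_le_left hrel a hdiv
    rw [hfib, hk, show k = 1 + (k - 1) by omega, pow_add, pow_one, Nat.cast_mul, mul_comm
      ((p : ℕ) : ZMod (p ^ 2)), mul_assoc, hz, mul_zero]

end CfsgLib.Kulakoff
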