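import Cfsg.Agent.Lib.Frobenius.FreeModule
import Cfsg.Agent.Lib.Char.PiPart

/-!
# Frobenius groups: modules without kernel fixed points are free over the complement
-/

set_option autoImplicit false

namespace CfsgLib.FrobeniusFree

open scoped BigOperators commutatorElement

universe u v w

variable {k : Type u} {V : Type v} {A : Type w} [Field k] [AddCommGroup V] [Module k V]
  [Group A]

/-- The vectors fixed by a subgroup. -/
def fixed (ρ : A →* Module.End k V) (B : Subgroup A) : Submodule k V where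
  carrier := {v | ∀ b ∈ B, ρ b v = v}
  zero_mem' := fun b _ => map_zero _
  add_mem' := fun {x y} hx hy b hb => by rw [map_add, hx b hb, hy b hb]
  smul_mem' := fun c x hx b hb => by rw [map_smul, hx b hb]

theorem mem_fixed {ρ : A →* Module.End k V} {B : Subgroup A} {v : V} :
    v ∈ fixed ρ B ↔ ∀ b ∈ B, ρ b v = v := Iff.rfl

theorem fixed_inv {ρ : A →* Module.End k V} {B : Subgroup A} [hB : B.Normal] (g : A) {v : V}
    (hv : v ∈ fixed ρ B) : ρ g v ∈ fixed ρ B := fun b hb => by
  have h1 : g⁻¹ * b * g ∈ B := by simpa using hB.conj_mem b hb g⁻¹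
  conv_rhs => rw [← hv _ h1]
  simp only [← Module.End.mul_apply, ← map_mul, mul_assoc, mul_inv_cancel_left]

theorem fixed_anti (ρ : A →* Module.End k V) {B C : Subgroup A} (h : B ≤ C) :
    fixed ρ C ≤ fixed ρ B := fun _ hv b hb => hv b (h hb)

/-- A `p`-group fixing no non-zero vector of an invariant subspace in characteristic `p`
sees only the zero subspace. -/
theorem eq_bot_of_pGroup (p : ℕ) [Fact p.Prime] [CharP k p] (ρ : A →* Module.End k V)
    (P : Subgroup A) [Finite P] (hP : IsPGroup p P) (C : Submodule k V)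
    (hinv : ∀ g ∈ P, ∀ x ∈ C, ρ g x ∈ C)
    (hfix : ∀ x ∈ C, (∀ g ∈ P, ρ g x = x) → x = 0) : C = ⊥ := by
  classical
  rw [Submodule.eq_bot_iff]
  intro v hv
  by_contra hv0
  let S : AddSubgroup V := AddSubgroup.closure (Set.range fun g : P => ρ (g : A) v)
  have hSC : S ≤ C.toAddSubgroup := (AddSubgroup.closure_le _).mpr (by
    rintro _ ⟨g, rfl⟩
    exact hinv _ g.2 v hv)
  have hp : ∀ x : V, p • x = 0 := fun x => by
    rw [← Nat.cast_smul_eq_nsmul k, CharP.cast_eq_zero, zero_smul]
  haveI : AddGroup.FG S := by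
    rw [AddGroup.fg_iff_addSubgroup_fg]
    exact (AddSubgroup.fg_iff _).mpr ⟨_, rfl, Set.finite_range _⟩
  haveI : Finite S := AddCommGroup.finite_of_fg_torsion S fun x =>
    isOfFinAddOrder_iff_nsmul_eq_zero.mpr
      ⟨p, (Fact.out : p.Prime).pos, Subtype.ext (hp (x : V))⟩
  have hinvS : ∀ g : P, ∀ x ∈ S, ρ (g : A) x ∈ S := by
    intro g x hx
    induction hx using AddSubgroup.closure_induction with
    | mem y hy =>
      obtain ⟨a, rfl⟩ := hy
      exact AddSubgroup.subset_closure ⟨g * a, by
        show ρ ((g * a : P) : A) v = ρ (g : A) (ρ (a : A) v)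
        rw [Subgroup.coe_mul, map_mul, Module.End.mul_apply]⟩
    | zero => rw [map_zero]; exact S.zero_mem
    | add a b _ _ ha hb => rw [map_add]; exact S.add_mem ha hb
    | neg a _ ha => rw [map_neg]; exact S.neg_mem ha
  letI : MulAction P S :=
    { smul := fun g x => ⟨ρ (g : A) x, hinvS g x x.2⟩
      one_smul := fun x => Subtype.ext (by
        show ρ ((1 : P) : A) (x : V) = x
        simp)
      mul_smul := fun a b x => Subtype.ext (by
        show ρ ((a * b : P) : A) (x : V) = ρ (a : A) (ρ (b : A) x)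
        simp) }
  have hvS : v ∈ S := AddSubgroup.subset_closure ⟨1, by simp⟩
  have hcard : p ∣ Nat.card S := by
    rw [← addOrderOf_eq_prime (x := (⟨v, hvS⟩ : S)) (p := p) (Subtype.ext (hp v))
      (fun h => hv0 (congrArg Subtype.val h))]
    exact addOrderOf_dvd_natCard _
  obtain ⟨y, hy, hy0⟩ := hP.exists_fixed_point_of_prime_dvd_card_of_fixed_point S hcard
    (a := 0) (fun g => Subtype.ext (map_zero _))
  exact hy0 (Subtype.ext (hfix _ (hSC y.2)
    fun g hg => congrArg Subtype.val (hy ⟨g, hg⟩))).symm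

variable [FiniteDimensional k V]

/-- Climbing a series of normal subgroups with commutative quotients. -/
theorem freeOn_series [Finite A] (ρ : A →* Module.End k V) (H : Subgroup A) [Fintype H]
    (D : ℕ → Subgroup A) (hDn : ∀ i, (D i).Normal) (hD : ∀ i, D (i + 1) ≤ D i)
    (hDc : ∀ i, ∀ y ∈ D i, ∀ z ∈ D i, (y * z) * (z * y)⁻¹ ∈ D (i + 1))
    (hcard : ∀ i, (Nat.card (D i) : k) ≠ 0) (h0 : fixed ρ (D 0) = ⊥)
    (hfpf : ∀ h ∈ H, h ≠ 1 → ∀ z ∈ D 0, h * z * h⁻¹ = z → z = 1) (i : ℕ) :
    FreeOn ρ H (fixed ρ (D i)) := by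
  classical
  induction i with
  | zero => rw [h0]; exact freeOn_bot ρ H
  | succ i ih =>
    haveI := hDn i
    haveI := hDn (i + 1)
    haveI : Fintype (D i) := Fintype.ofFinite _
    let π : Module.End k V := ∑ z : D i, ρ (z : A)
    have hπfix : ∀ v, π v ∈ fixed ρ (D i) := fun v b hb => by
      simp only [π, LinearMap.sum_apply, map_sum]
      refine Fintype.sum_equiv (Equiv.mulLeft (⟨b, hb⟩ : D i)) _ _ fun z => ?_
      show ρ b (ρ (z : A) v) = ρ (b * (z : A)) v
      rw [map_mul, Module.End.mul_apply]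
    have hπid : ∀ v ∈ fixed ρ (D i), π v = (Nat.card (D i) : k) • v := fun v hv => by
      simp only [π, LinearMap.sum_apply]
      rw [Finset.sum_congr rfl fun z _ => hv _ z.2, Finset.sum_const, Finset.card_univ,
        Nat.card_eq_fintype_card, Nat.cast_smul_eq_nsmul]
    have hπcomm : ∀ g v, π (ρ g v) = ρ g (π v) := fun g v => by
      simp only [π, LinearMap.sum_apply, map_sum]
      refine Fintype.sum_equiv ((MulAut.conjNormal g⁻¹ : MulAut (D i))).toEquiv _ _ fun z => ?_
      rw [← Module.End.mul_apply, ← Module.End.mul_apply, ← map_mul, ← map_mul]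
      congr 2
      show (z : A) * g = g * ((MulAut.conjNormal g⁻¹ z : D i) : A)
      rw [MulAut.conjNormal_apply, inv_inv]
      group
    let U : Submodule k V := fixed ρ (D (i + 1)) ⊓ LinearMap.ker π
    have hUinv : ∀ g, ∀ v ∈ U, ρ g v ∈ U := fun g v hv => ⟨fixed_inv g hv.1, by
      show π (ρ g v) = 0
      rw [hπcomm, (hv.2 : π v = 0), map_zero]⟩
    have hsup : fixed ρ (D (i + 1)) = fixed ρ (D i) ⊔ U := by
      refine le_antisymm (fun v hv => ?_) (sup_le (fixed_anti ρ (hD i)) inf_le_left)
      have h1 : (Nat.card (D i) : k)⁻¹ • π v ∈ fixed ρ (D i) := Submodule.smul_mem _ _ (hπfix v)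
      refine Submodule.mem_sup.mpr ⟨_, h1, v - (Nat.card (D i) : k)⁻¹ • π v,
        ⟨Submodule.sub_mem _ hv (fixed_anti ρ (hD i) h1), ?_⟩, by abel⟩
      show π (v - (Nat.card (D i) : k)⁻¹ • π v) = 0
      rw [map_sub, hπid _ h1, smul_smul, mul_inv_cancel₀ (hcard i), one_smul, sub_self]
    have hdisj : Disjoint (fixed ρ (D i)) U := by
      rw [Submodule.disjoint_def]
      intro v hv hvU
      have h1 : π v = 0 := hvU.2
      rw [hπid v hv] at h1
      exact (smul_eq_zero.mp h1).resolve_left (hcard i)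
    -- the action on `U`
    let σ : A →* Module.End k U :=
      { toFun := fun g => (ρ g).restrict (hUinv g)
        map_one' := LinearMap.ext fun x => Subtype.ext (by
          show ρ 1 (x : V) = x
          rw [map_one]; rfl)
        map_mul' := fun a b => LinearMap.ext fun x => Subtype.ext (by
          show ρ (a * b) (x : V) = ρ a (ρ b x)
          rw [map_mul]; rfl) }
    have hσ : FreeOn σ H ⊤ := by
      refine freeOn_top σ (D i) H (fun y hy z hz => ?_) (hcard i) (fun x hx => ?_)
        (fun h hh hne z hz he => hfpf h hh hne z ?_ he)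
      · refine LinearMap.ext fun x => Subtype.ext ?_
        show ρ y (ρ z (x : V)) = ρ z (ρ y x)
        have h1 := fixed_inv (z * y) x.2.1 _ (hDc i y hy z hz)
        rw [← Module.End.mul_apply, ← map_mul, inv_mul_cancel_right] at h1
        rw [← Module.End.mul_apply, ← map_mul, h1, map_mul, Module.End.mul_apply]
      · have h1 : (x : V) ∈ fixed ρ (D i) := fun b hb => congrArg Subtype.val (hx b hb)
        exact Subtype.ext (Submodule.disjoint_def.mp hdisj _ h1 x.2)
      · exact (antitone_nat_of_succ_le hD (Nat.zero_le i)) hz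
    have hU : FreeOn ρ H U := by
      obtain ⟨W, -, hWs, hWu⟩ := hσ
      refine ⟨W.map U.subtype, Submodule.map_subtype_le _ _, fun v hv => ?_, fun w hw hsum => ?_⟩
      · obtain ⟨w, hw, hsum⟩ := hWs ⟨v, hv⟩ trivial
        refine ⟨fun h => (w h : V), fun h => Submodule.mem_map_of_mem (hw h), ?_⟩
        have h1 := congrArg Subtype.val hsum
        rw [AddSubmonoidClass.coe_finsetSum] at h1
        exact h1
      · choose x hx hxw using fun h => Submodule.mem_map.mp (hw h)
        have h1 : ∑ h : H, σ (h : A) (x h) = 0 := by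
          refine Subtype.ext ?_
          rw [AddSubmonoidClass.coe_finsetSum]
          refine Eq.trans ?_ hsum
          exact Finset.sum_congr rfl fun h _ => congrArg (ρ (h : A)) (hxw h)
        intro h
        rw [← hxw h, hWu x hx h1 h, map_zero]
    rw [hsup]
    exact freeOn_sup ih hU (fun h _ v hv => fixed_inv h hv) (fun h _ => hUinv h) hdisj

/-- The derived series of a subgroup, inside the group. -/
def derivedIn (K : Subgroup A) : ℕ → Subgroup A
  | 0 => K
  | i + 1 => ⁅derivedIn K i, derivedIn K i⁆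

theorem derivedIn_normal (K : Subgroup A) [K.Normal] : ∀ i, (derivedIn K i).Normal
  | 0 => inferInstanceAs K.Normal
  | i + 1 => by
    haveI := derivedIn_normal K i
    exact Subgroup.commutator_normal _ _

theorem derivedIn_eq_map (K : Subgroup A) :
    ∀ i, derivedIn K i = (derivedSeries K i).map K.subtype
  | 0 => by
    rw [derivedSeries_zero, ← MonoidHom.range_eq_map, Subgroup.range_subtype]
    rfl
  | i + 1 => by
    rw [derivedSeries_succ, Subgroup.map_commutator, ← derivedIn_eq_map K i]
    rfl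

/-- The abstract statement: a nilpotent normal subgroup without fixed vectors. -/
theorem freeOn_of_nilpotent [Finite A] (ρ : A →* Module.End k V) (Fk H : Subgroup A) [hN : Fk.Normal]
    [Fintype H] [Group.IsNilpotent Fk]
    (hfix : fixed ρ Fk = ⊥) (hfpf : ∀ h ∈ H, h ≠ 1 → ∀ z ∈ Fk, h * z * h⁻¹ = z → z = 1) :
    FreeOn ρ H ⊤ := by
  classical
  set p := ringChar k with hp
  set N := Nat.card Fk with hNdef
  have hN0 : N ≠ 0 := Nat.card_pos.ne'
  set n := ordProj[p] N with hn
  set m := ordCompl[p] N with hm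
  have hmn : n * m = N := Nat.ordProj_mul_ordCompl_eq_self N p
  have hm0 : (m : k) ≠ 0 := by
    rw [ne_eq, ringChar.spec k m, ← hp]
    rcases CharP.char_is_prime_or_zero k p with h | h
    · exact Nat.not_dvd_ordCompl h hN0
    · rw [h, zero_dvd_iff]
      exact (Nat.ordCompl_pos p hN0).ne'
  have hcop : n.Coprime m := by
    rcases CharP.char_is_prime_or_zero k p with h | h
    · exact (Nat.coprime_ordCompl h hN0).pow_left _
    · rw [hn, h, Nat.factorization_zero_right, pow_zero]
      exact Nat.coprime_one_left m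
  obtain ⟨a, b, ha, hma, hnb, hab⟩ := CfsgLib.Char.PiPart.exists_exponent hcop
  have hNle : Nat.card Fk ∣ n * m := dvd_of_eq hmn.symm
  have hmem : ∀ x : Fk, x ^ a = 1 ↔ x ^ m = 1 := fun x =>
    CfsgLib.Char.PiPart.part_eq_one_iff hNle ha hma hcop x
  -- the part of order prime to the characteristic
  let K : Subgroup A :=
    { carrier := {x | x ∈ Fk ∧ x ^ m = 1}
      one_mem' := ⟨Fk.one_mem, one_pow m⟩
      mul_mem' := fun {x y} hx hy => ⟨Fk.mul_mem hx.1 hy.1, by
        have h1 := (hmem ⟨x, hx.1⟩).mpr (Subtype.ext hx.2)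
        have h2 := (hmem ⟨y, hy.1⟩).mpr (Subtype.ext hy.2)
        have h3 : ((⟨x, hx.1⟩ : Fk) * ⟨y, hy.1⟩) ^ a = 1 := by
          rw [CfsgLib.Char.PiPart.part_hom hNle ha hma hcop, h1, h2, mul_one]
        exact congrArg Subtype.val ((hmem _).mp h3)⟩
      inv_mem' := fun {x} hx => ⟨Fk.inv_mem hx.1, by rw [inv_pow, hx.2, inv_one]⟩ }
  haveI hKn : K.Normal := ⟨fun x hx g => ⟨hN.conj_mem x hx.1 g, by
    rw [conj_pow, hx.2, mul_one, mul_inv_cancel]⟩⟩
  have hKF : K ≤ Fk := fun x hx => hx.1
  have hKcard : (Nat.card K : k) ≠ 0 := by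
    rw [ne_eq, ringChar.spec k, ← hp]
    intro hdvd
    rcases CharP.char_is_prime_or_zero k p with h | h
    · haveI := Fact.mk h
      obtain ⟨x, hx⟩ := exists_prime_orderOf_dvd_card' (G := K) p hdvd
      have h1 : orderOf x ∣ m := orderOf_dvd_of_pow_eq_one (Subtype.ext x.2.2)
      rw [hx] at h1
      exact Nat.not_dvd_ordCompl h hN0 h1
    · rw [h, zero_dvd_iff] at hdvd
      exact Nat.card_pos.ne' hdvd
  have hKfix : fixed ρ K = ⊥ := by
    -- the complementary part
    let Q : Set A := {x | x ∈ Fk ∧ x ^ n = 1}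
    have hdec : ∀ f ∈ Fk, ∃ y ∈ K, ∃ z ∈ Q, f = z * y := by
      intro f hf
      refine ⟨f ^ b, ⟨Fk.pow_mem hf b, ?_⟩, f ^ a, ⟨Fk.pow_mem hf a, ?_⟩, ?_⟩
      · have hbm : (⟨f, hf⟩ : Fk) ^ (b * m) = 1 := by
          obtain ⟨c, rfl⟩ := hnb
          rw [show n * c * m = n * m * c by ring, pow_mul, hmn, hNdef, pow_card_eq_one', one_pow]
        simpa [pow_mul] using congrArg Subtype.val hbm
      · exact congrArg Subtype.val (CfsgLib.Char.PiPart.part_pow hNle hma (⟨f, hf⟩ : Fk))
      · have h1 : (⟨f, hf⟩ : Fk) ^ (a + b) = ⟨f, hf⟩ := by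
          conv_rhs => rw [← pow_one (⟨f, hf⟩ : Fk)]
          rw [pow_eq_pow_iff_modEq]
          exact hab.of_dvd ((orderOf_dvd_natCard _).trans hNle)
        simpa [pow_add] using (congrArg Subtype.val h1).symm
    rcases CharP.char_is_prime_or_zero k p with h | h
    · haveI := Fact.mk h
      haveI : CharP k p := ringChar.charP k
      let P : Subgroup A := Subgroup.closure Q
      have hPF : P ≤ Fk := (Subgroup.closure_le _).mpr fun x hx => hx.1
      have hP : IsPGroup p P := by
        have hQsub : ∀ x ∈ P, x ∈ Fk ∧ x ^ n = 1 := by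
          intro x hx
          induction hx using Subgroup.closure_induction with
          | mem y hy => exact hy
          | one => exact ⟨Fk.one_mem, one_pow n⟩
          | mul y z _ _ hy hz =>
            refine ⟨Fk.mul_mem hy.1 hz.1, ?_⟩
            obtain ⟨a', b', ha', hma', -, -⟩ := CfsgLib.Char.PiPart.exists_exponent hcop.symm
            have hN' : Nat.card Fk ∣ m * n := by rw [mul_comm]; exact hNle
            have hiff : ∀ x : Fk, x ^ a' = 1 ↔ x ^ n = 1 := fun x =>
              CfsgLib.Char.PiPart.part_eq_one_iff hN' ha' hma' hcop.symm x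
            have h3 : ((⟨y, hy.1⟩ : Fk) * ⟨z, hz.1⟩) ^ a' = 1 := by
              rw [CfsgLib.Char.PiPart.part_hom hN' ha' hma' hcop.symm,
                (hiff ⟨y, hy.1⟩).mpr (Subtype.ext hy.2), (hiff ⟨z, hz.1⟩).mpr (Subtype.ext hz.2),
                mul_one]
            exact congrArg Subtype.val ((hiff _).mp h3)
          | inv y _ hy => exact ⟨Fk.inv_mem hy.1, by rw [inv_pow, hy.2, inv_one]⟩
        exact fun x => ⟨N.factorization p, Subtype.ext (hQsub x x.2).2⟩
      refine eq_bot_of_pGroup p ρ P hP _ (fun g _ x hx => fixed_inv g hx) fun x hxK hxP => ?_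
      refine (Submodule.eq_bot_iff _).mp hfix x fun f hf => ?_
      obtain ⟨y, hy, z, hz, rfl⟩ := hdec f hf
      rw [map_mul, Module.End.mul_apply, hxK y hy, hxP z (Subgroup.subset_closure hz)]
    · rw [eq_bot_iff, ← hfix]
      refine fixed_anti ρ fun f hf => ⟨hf, ?_⟩
      have hn1 : n = 1 := by rw [hn, h, Nat.factorization_zero_right, pow_zero]
      have hmN : m = N := by rw [← hmn, hn1, one_mul]
      rw [hmN]
      exact congrArg Subtype.val (pow_card_eq_one' (x := (⟨f, hf⟩ : Fk)))
  -- the derived series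
  haveI : Group.IsSolvable K :=
    solvable_of_solvable_injective (Subgroup.inclusion_injective hKF)
  obtain ⟨r, hr⟩ := Group.IsSolvable.solvable (G := K)
  have hDle : ∀ i, derivedIn K (i + 1) ≤ derivedIn K i := fun i => by
    haveI := derivedIn_normal K i
    exact Subgroup.commutator_le_left _ _
  have key := freeOn_series ρ H (derivedIn K) (derivedIn_normal K) hDle
    (fun i y hy z hz => by
      have h1 : y * z * (z * y)⁻¹ = ⁅y, z⁆ := by rw [commutatorElement_def]; group
      rw [h1]
      exact Subgroup.commutator_mem_commutator hy hz)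
    (fun i hz => hKcard (by
      have hle : derivedIn K i ≤ K := antitone_nat_of_succ_le hDle (Nat.zero_le i)
      obtain ⟨c, hc⟩ := Subgroup.card_dvd_of_le hle
      rw [hc, Nat.cast_mul, hz, zero_mul]))
    hKfix (fun h hh hne z hz => hfpf h hh hne z (hKF hz)) r
  have htop : fixed ρ (derivedIn K r) = ⊤ := by
    rw [derivedIn_eq_map, hr, Subgroup.map_bot, eq_top_iff]
    intro v _ b hb
    rw [Subgroup.mem_bot.mp hb, map_one]
    rfl
  rwa [htop] at key

end CfsgLib.FrobeniusFree
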