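import Mathlib

/-!
# Wielandt's count of the subgroups of prime power order
-/

set_option autoImplicit false

namespace CfsgLib.Frobenius

open Pointwise

variable {G : Type*} [Group G] [Finite G] [DecidableEq G]

/-- The `q`-element subsets of `G`. -/
abbrev QSub (G : Type*) (q : ℕ) : Type _ := ↥(Set.powersetCard G q)

theorem card_stabilizer_dvd (q : ℕ) (S : (QSub G (q))) : Nat.card (MulAction.stabilizer G S) ∣ q := by
  classical
  set H := MulAction.stabilizer G S
  let T : Set G := {x | x⁻¹ ∈ (S : Finset G)}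
  have hT : T = QuotientGroup.mk ⁻¹' ((QuotientGroup.mk : G → G ⧸ H) '' T) := by
    refine Set.Subset.antisymm (fun x hx => ⟨x, hx, rfl⟩) ?_
    rintro x ⟨y, hy, he⟩
    obtain ⟨h, rfl⟩ : ∃ h : H, x = y * h := ⟨⟨y⁻¹ * x, QuotientGroup.eq.mp he⟩, by rw [mul_inv_cancel_left]⟩
    show (y * (h : G))⁻¹ ∈ (S : Finset G)
    rw [mul_inv_rev]
    have e : (h : G)⁻¹ • S = S := MulAction.mem_stabilizer_iff.mp (H.inv_mem h.2)
    rw [← e, Set.powersetCard.coe_smul, ← smul_eq_mul]
    exact Finset.smul_mem_smul_finset hy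
  have h1 : Nat.card T = q := by
    rw [← S.prop, ← Nat.card_eq_finsetCard]
    exact Nat.card_congr ((Equiv.inv G).subtypeEquiv fun x => Iff.rfl)
  rw [← h1, hT, Nat.card_congr (QuotientGroup.preimageMkEquivSubgroupProdSet H _), Nat.card_prod]
  exact dvd_mul_right _ _

/-- The right coset belonging to a subgroup and a left coset. -/
noncomputable def cosetSet (q : ℕ) (z : Σ H : {H : Subgroup G // Nat.card H = q}, G ⧸ H.1) :
    (QSub G (q)) :=
  haveI := Fintype.ofFinite G
  haveI : DecidableEq (G ⧸ z.1.1) := Classical.decEq _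
  ⟨(Finset.univ : Finset G).filter fun x => (QuotientGroup.mk x⁻¹ : G ⧸ z.1.1) = z.2, by
    show Finset.card _ = q
    rw [← Fintype.card_subtype, ← Nat.card_eq_fintype_card]
    refine ((Nat.card_congr ((Equiv.inv G).subtypeEquiv (q := fun x : G => (QuotientGroup.mk x : G ⧸ z.1.1) = z.2)
      fun x => Iff.rfl)).trans ?_)
    have := Nat.card_congr (QuotientGroup.preimageMkEquivSubgroupProdSet z.1.1 {z.2})
    rw [Nat.card_prod, z.1.2, Nat.card_coe_set_eq {z.2}, Set.ncard_singleton, mul_one] at this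
    exact this⟩

theorem mem_cosetSet {q : ℕ} {z : Σ H : {H : Subgroup G // Nat.card H = q}, G ⧸ H.1} {x : G} :
    x ∈ (cosetSet q z : Finset G) ↔ (QuotientGroup.mk x⁻¹ : G ⧸ z.1.1) = z.2 := by
  simp [cosetSet]

theorem smul_mem_iff {q : ℕ} (g : G) (S : (QSub G (q))) (x : G) :
    x ∈ ((g • S : (QSub G (q))) : Finset G) ↔ g⁻¹ * x ∈ (S : Finset G) := by
  classical
  rw [Set.powersetCard.coe_smul, ← Finset.inv_smul_mem_iff, smul_eq_mul]

theorem stabilizer_cosetSet (q : ℕ) (z : Σ H : {H : Subgroup G // Nat.card H = q}, G ⧸ H.1) :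
    MulAction.stabilizer G (cosetSet q z) = z.1.1 := by
  obtain ⟨⟨H, hH⟩, c⟩ := z
  obtain ⟨y, rfl⟩ := QuotientGroup.mk_surjective c
  ext g
  rw [MulAction.mem_stabilizer_iff]
  constructor
  · intro h
    have hy : y⁻¹ ∈ (cosetSet q ⟨⟨H, hH⟩, (y : G ⧸ H)⟩ : Finset G) := by
      rw [mem_cosetSet, inv_inv]
    rw [← h, smul_mem_iff, mem_cosetSet, QuotientGroup.eq] at hy
    simp only [mul_inv_rev, inv_inv] at hy
    have : y⁻¹⁻¹ = y := inv_inv y
    simpa [mul_assoc] using H.inv_mem hy
  · intro h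
    refine Subtype.ext (Finset.ext fun x => ?_)
    rw [smul_mem_iff, mem_cosetSet, mem_cosetSet, mul_inv_rev, inv_inv]
    rw [show ((x⁻¹ * g : G) : G ⧸ H) = ((x⁻¹ : G) : G ⧸ H) from QuotientGroup.eq.mpr (by
      have : (x⁻¹ * g)⁻¹ * x⁻¹ = g⁻¹ := by group
      rw [this]
      exact H.inv_mem h)]

theorem card_full_stabilizer (q : ℕ) (hq : 0 < q) :
    Nat.card {S : (QSub G (q)) // Nat.card (MulAction.stabilizer G S) = q} * q =
      Nat.card {H : Subgroup G // Nat.card H = q} * Nat.card G := by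
  classical
  have := Fintype.ofFinite G
  have e : Nat.card {S : (QSub G (q)) // Nat.card (MulAction.stabilizer G S) = q} =
      Nat.card (Σ H : {H : Subgroup G // Nat.card H = q}, G ⧸ H.1) := by
    refine (Nat.card_eq_of_bijective (fun z => ⟨cosetSet q z, by
      rw [stabilizer_cosetSet]; exact z.1.2⟩) ⟨?_, ?_⟩).symm
    · intro z w h
      have h' : cosetSet q z = cosetSet q w := congrArg Subtype.val h
      have hH : z.1 = w.1 := Subtype.ext (by rw [← stabilizer_cosetSet q z, h', stabilizer_cosetSet])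
      obtain ⟨H, c⟩ := z
      obtain ⟨H', c'⟩ := w
      simp only at hH
      subst hH
      obtain ⟨y, rfl⟩ := QuotientGroup.mk_surjective c
      have hy : y⁻¹ ∈ (cosetSet q ⟨H, (y : G ⧸ H.1)⟩ : Finset G) := by rw [mem_cosetSet, inv_inv]
      rw [h', mem_cosetSet, inv_inv] at hy
      exact Sigma.ext rfl (heq_of_eq hy)
    · rintro ⟨S, hS⟩
      obtain ⟨x, hx⟩ : (S : Finset G).Nonempty := by
        rw [← Finset.card_pos, S.prop]; exact hq
      refine ⟨⟨⟨MulAction.stabilizer G S, hS⟩, (x⁻¹ : G)⟩, Subtype.ext (Subtype.ext ?_)⟩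
      refine Finset.eq_of_subset_of_card_le (fun u hu => ?_) (by rw [S.prop, (cosetSet q _).prop])
      rw [mem_cosetSet, QuotientGroup.eq, inv_inv, MulAction.mem_stabilizer_iff] at hu
      have h2 : (u * x⁻¹) * x ∈ ((u * x⁻¹) • S : (QSub G (q))).1 := by
        rw [smul_mem_iff, inv_mul_cancel_left]; exact hx
      rw [inv_mul_cancel_right] at h2
      rw [hu] at h2
      exact h2
  rw [e, Nat.card_sigma, Finset.sum_mul,
    Finset.sum_congr rfl (g := fun _ => Nat.card G) fun H _ => by
      have := Subgroup.card_mul_index H.1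
      rw [H.2, Subgroup.index, mul_comm] at this
      exact this,
    Finset.sum_const, Finset.card_univ, smul_eq_mul, Nat.card_eq_fintype_card, Nat.card_eq_fintype_card]

/-- The congruence between binomial coefficients and the number of subgroups. -/
theorem card_powersetCard_modEq {p : ℕ} (hp : p.Prime) (β m : ℕ) (hm : Nat.card G = p ^ β * m) :
    Nat.card ((QSub G (p ^ β))) ≡ m * Nat.card {H : Subgroup G // Nat.card H = p ^ β} [MOD p * m] := by
  classical
  have := Fintype.ofFinite G
  have h1 : Nat.card {S : (QSub G (p ^ β)) // Nat.card (MulAction.stabilizer G S) = p ^ β} =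
      m * Nat.card {H : Subgroup G // Nat.card H = p ^ β} := by
    have := card_full_stabilizer (G := G) (p ^ β) (pow_pos hp.pos β)
    rw [hm, show Nat.card {H : Subgroup G // Nat.card H = p ^ β} * (p ^ β * m) =
      m * Nat.card {H : Subgroup G // Nat.card H = p ^ β} * p ^ β by ring] at this
    exact Nat.eq_of_mul_eq_mul_right (pow_pos hp.pos β) this
  have h2 : p * m ∣ Nat.card {S : (QSub G (p ^ β)) // ¬ Nat.card (MulAction.stabilizer G S) = p ^ β} := by
    rw [Nat.card_eq_fintype_card, Fintype.card_subtype,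
      Finset.card_eq_sum_card_fiberwise (f := fun S : (QSub G (p ^ β)) =>
        (Quotient.mk'' S : MulAction.orbitRel.Quotient G ((QSub G (p ^ β))))) (t := Finset.univ)
        (fun _ _ => Finset.mem_univ _)]
    refine Finset.dvd_sum fun o _ => ?_
    rcases Finset.eq_empty_or_nonempty ((Finset.univ.filter fun T : QSub G (p ^ β) =>
        ¬ Nat.card (MulAction.stabilizer G T) = p ^ β).filter fun T =>
        (Quotient.mk'' T : MulAction.orbitRel.Quotient G (QSub G (p ^ β))) = o) with he | ⟨S, hS⟩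
    · rw [he]; exact dvd_zero _
    simp only [Finset.mem_filter, Finset.mem_univ, true_and] at hS
    obtain ⟨hS1, hS2⟩ := hS
    have hfib : ((Finset.univ.filter fun T : (QSub G (p ^ β)) =>
        ¬ Nat.card (MulAction.stabilizer G T) = p ^ β).filter fun T =>
        (Quotient.mk'' T : MulAction.orbitRel.Quotient G ((QSub G (p ^ β)))) = o) =
        (MulAction.orbit G S).toFinset := by
      ext T
      simp only [Finset.mem_filter, Finset.mem_univ, true_and, Set.mem_toFinset]
      rw [← hS2, Quotient.eq'', MulAction.orbitRel_apply]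
      refine ⟨fun h => h.2, fun h => ⟨?_, h⟩⟩
      obtain ⟨g, rfl⟩ := h
      rw [Nat.card_congr (MulAction.stabilizerEquivStabilizerOfOrbitRel
        (G := G) (a := g • S) (b := S) (MulAction.mem_orbit _ _)).toEquiv]
      exact hS1
    rw [hfib, Set.toFinset_card, ← Nat.card_eq_fintype_card]
    obtain ⟨i, hi, hst⟩ := (Nat.dvd_prime_pow hp).mp (card_stabilizer_dvd (p ^ β) S)
    have hlt : i < β := lt_of_le_of_ne hi fun e => hS1 (e ▸ hst)
    have horb := Nat.card_congr (MulAction.orbitProdStabilizerEquivGroup G S)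
    rw [Nat.card_prod, hst, hm] at horb
    refine ⟨p ^ (β - i - 1), Nat.eq_of_mul_eq_mul_right (pow_pos hp.pos i) ?_⟩
    rw [horb, show p * m * p ^ (β - i - 1) * p ^ i = p ^ ((β - i - 1) + i + 1) * m by ring]
    congr 2
    omega
  have hsplit : Nat.card ((QSub G (p ^ β))) =
      Nat.card {S : (QSub G (p ^ β)) // Nat.card (MulAction.stabilizer G S) = p ^ β} +
      Nat.card {S : (QSub G (p ^ β)) // ¬ Nat.card (MulAction.stabilizer G S) = p ^ β} := by
    rw [← Nat.card_sum]
    exact (Nat.card_congr (Equiv.sumCompl _)).symm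
  rw [hsplit, h1]
  exact (Nat.ModEq.add_left _ ((Nat.modEq_zero_iff_dvd).mpr h2)).trans (by rw [add_zero])

/-- **Sylow–Frobenius**: the number of subgroups of order `p ^ β` is `1` modulo `p`. -/
theorem card_subgroups_modEq_one {p : ℕ} (hp : p.Prime) (β : ℕ) (hdiv : p ^ β ∣ Nat.card G) :
    Nat.card {H : Subgroup G // Nat.card H = p ^ β} ≡ 1 [MOD p] := by
  classical
  obtain ⟨m, hm⟩ := hdiv
  have hm0 : m ≠ 0 := by
    rintro rfl
    rw [mul_zero] at hm
    exact Nat.card_pos.ne' hm
  let C := Multiplicative (ZMod (p ^ β * m))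
  haveI : NeZero (p ^ β * m) := ⟨hm ▸ Nat.card_pos.ne'⟩
  have hC : Nat.card C = p ^ β * m := by
    rw [Nat.card_congr Multiplicative.toAdd, Nat.card_zmod]
  have e : Nat.card ((QSub G (p ^ β))) = Nat.card ((QSub C (p ^ β))) := by
    rw [Set.powersetCard.card, Set.powersetCard.card, hm, hC]
  have hone : Nat.card {H : Subgroup C // Nat.card H = p ^ β} = 1 := by
    rw [Nat.card_eq_one_iff_unique]
    haveI := Fintype.ofFinite C
    refine ⟨⟨fun H K => Subtype.ext ?_⟩, ?_⟩
    · have key : ∀ H : {H : Subgroup C // Nat.card H = p ^ β},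
          (H.1 : Set C).toFinset = Finset.univ.filter (fun x : C => x ^ p ^ β = 1) := by
        intro H
        refine Finset.eq_of_subset_of_card_le (fun x hx => ?_) ?_
        · rw [Set.mem_toFinset] at hx
          simp only [Finset.mem_filter, Finset.mem_univ, true_and]
          have := congrArg Subtype.val (pow_card_eq_one' (x := (⟨x, hx⟩ : H.1)))
          rwa [H.2] at this
        · refine (IsCyclic.card_pow_eq_one_le (pow_pos hp.pos β)).trans ?_
          rw [Set.toFinset_card, ← Nat.card_eq_fintype_card]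
          exact H.2.ge
      exact SetLike.coe_injective (Set.toFinset_inj.mp ((key H).trans (key K).symm))
    · obtain ⟨H, hH⟩ := @Sylow.exists_subgroup_card_pow_prime C _ _ p β ⟨hp⟩ (hC ▸ dvd_mul_right _ _)
      exact ⟨⟨H, hH⟩⟩
  have h1 := card_powersetCard_modEq (G := C) hp β m hC
  rw [hone, mul_one, ← e] at h1
  have h2 := (card_powersetCard_modEq (G := G) hp β m hm).symm.trans h1
  rw [mul_comm p m] at h2
  have h3 : m * Nat.card {H : Subgroup G // Nat.card H = p ^ β} ≡ m * 1 [MOD m * p] := by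
    rwa [mul_one]
  exact Nat.ModEq.mul_left_cancel' hm0 h3

end CfsgLib.Frobenius
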