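import Mathlib
import Cfsg.Agent.Lib.Frobenius.SubgroupCount
import Cfsg.Agent.Lib.PGroup.CyclicMax
import Cfsg.Agent.S3977

/-!
The number of subgroups of order `p ^ a` modulo `p ^ 2`: Kulakoff's theorem for `p`-groups and
Hall's extension to arbitrary finite groups.
-/

set_option autoImplicit false
set_option linter.style.haveILetI false

open scoped Pointwise

namespace CfsgLib.Kulakoff

variable {p : ℕ}

theorem natCast_modEq {a b : ℕ} (h : a ≡ b [MOD p]) :
    (p : ZMod (p ^ 2)) * a = (p : ZMod (p ^ 2)) * b := by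
  rw [← Nat.cast_mul, ← Nat.cast_mul, ZMod.natCast_eq_natCast_iff, pow_two]
  exact h.mul_left' p

theorem p_sq : ((p : ZMod (p ^ 2))) * p = 0 := by
  rw [← Nat.cast_mul, ← pow_two, ZMod.natCast_self]

variable [hp : Fact p.Prime]

omit hp in
theorem eq_of_card_cyclic {C : Type*} [Group C] [Finite C] [IsCyclic C] (H K : Subgroup C)
    (h : Nat.card H = Nat.card K) : H = K := by
  classical
  haveI := Fintype.ofFinite C
  have key : ∀ L : Subgroup C, Nat.card L = Nat.card H →
      (L : Set C).toFinset = Finset.univ.filter (fun x : C => x ^ Nat.card H = 1) := by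
    intro L hL
    refine Finset.eq_of_subset_of_card_le (fun x hx => ?_) ?_
    · rw [Set.mem_toFinset] at hx
      have h2 := congrArg Subtype.val (pow_card_eq_one' (x := (⟨x, hx⟩ : L)))
      rw [hL] at h2
      simpa using h2
    · refine (IsCyclic.card_pow_eq_one_le Nat.card_pos).trans (le_of_eq ?_)
      rw [Set.toFinset_card, ← Nat.card_eq_fintype_card]
      exact hL.symm
  exact SetLike.coe_injective (Set.toFinset_inj.mp ((key H rfl).trans (key K h.symm).symm))

section Elementary

variable {Q : Type*} [Group Q] [Finite Q]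

theorem card_prime_subgroups (helem : ∀ x : Q, x ^ p = 1) :
    Nat.card {H : Subgroup Q // Nat.card H = p} * (p - 1) + 1 = Nat.card Q := by
  classical
  haveI := Fintype.ofFinite Q
  haveI := Fintype.ofFinite {H : Subgroup Q // Nat.card H = p}
  have hord : ∀ x : Q, x ≠ 1 → Nat.card (Subgroup.zpowers x) = p := fun x hx => by
    rw [Nat.card_zpowers]
    exact orderOf_eq_prime (helem x) hx
  have hgen : ∀ (H : Subgroup Q), Nat.card H = p → ∀ y ∈ H, y ≠ 1 → Subgroup.zpowers y = H :=
    fun H hH y hy hy1 => Subgroup.eq_of_le_of_card_ge (Subgroup.zpowers_le.mpr hy)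
      (by rw [hord y hy1, hH])
  have e : {x : Q // x ≠ 1} ≃ Σ H : {H : Subgroup Q // Nat.card H = p}, {y : H.1 // y ≠ 1} := by
    refine (Equiv.ofBijective (fun z => (⟨(z.2.1 : Q), fun h => z.2.2 (Subtype.ext h)⟩ :
      {x : Q // x ≠ 1})) ⟨?_, ?_⟩).symm
    · rintro ⟨⟨H, hH⟩, ⟨⟨y, hy⟩, hy1⟩⟩ ⟨⟨K, hK⟩, ⟨⟨z, hz⟩, hz1⟩⟩ h
      have hyz : y = z := congrArg Subtype.val h
      subst hyz
      have hne : y ≠ 1 := fun h1 => hy1 (Subtype.ext h1)
      have hHK : H = K := (hgen H hH y hy hne).symm.trans (hgen K hK y hz hne)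
      subst hHK
      rfl
    · rintro ⟨x, hx⟩
      exact ⟨⟨⟨Subgroup.zpowers x, hord x hx⟩, ⟨⟨x, Subgroup.mem_zpowers x⟩,
        fun h => hx (congrArg Subtype.val h)⟩⟩, rfl⟩
  have hsub : ∀ (α : Type _) [Finite α] (a : α), Nat.card {x : α // x ≠ a} + 1 = Nat.card α := by
    intro α _ a
    rw [← Finite.card_option]
    exact Nat.card_congr (Equiv.optionSubtypeNe a)
  have h2 := Nat.card_congr e
  rw [Nat.card_sigma, Finset.sum_congr rfl (g := fun _ => p - 1) (fun H _ => by
    have h3 := hsub H.1 1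
    rw [H.2] at h3
    omega), Finset.sum_const, smul_eq_mul, Finset.card_univ, ← Nat.card_eq_fintype_card] at h2
  rw [← h2]
  exact hsub Q 1

theorem cast_card_hyperplanes (hcomm : ∀ a b : Q, a * b = b * a) (helem : ∀ x : Q, x ^ p = 1)
    {e : ℕ} (he : Nat.card Q = p ^ e) (he2 : 2 ≤ e) :
    (Nat.card {H : Subgroup Q // H.index = p} : ZMod (p ^ 2)) = 1 + p := by
  letI : CommGroup Q := { (inferInstance : Group Q) with mul_comm := hcomm }
  haveI : NeZero (Monoid.exponent Q) := ⟨Monoid.exponent_ne_zero_of_finite⟩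
  have hD : ∀ φ : Q →* ℂˣ, φ ^ p = 1 := fun φ => MonoidHom.ext fun x => by
    rw [MonoidHom.pow_apply, MonoidHom.one_apply, ← map_pow, helem, map_one]
  have hcardD : Nat.card (Q →* ℂˣ) = p ^ e := by
    rw [CommGroup.card_monoidHom_of_hasEnoughRootsOfUnity Q ℂ, he]
  haveI : Finite (Q →* ℂˣ) := Nat.finite_of_card_ne_zero (by
    rw [hcardD]; exact (pow_pos hp.out.pos e).ne')
  have hN : Nat.card {H : Subgroup Q // H.index = p} =
      Nat.card {D : Subgroup (Q →* ℂˣ) // Nat.card D = p} := by
    refine Nat.card_congr (Equiv.subtypeEquiv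
      ((CommGroup.subgroupOrderIsoSubgroupMonoidHom Q ℂ).toEquiv.trans OrderDual.ofDual)
      fun H => ?_)
    show H.index = p ↔ Nat.card (CommGroup.subgroupOrderIsoSubgroupMonoidHom Q ℂ H).ofDual = p
    rw [CommGroup.card_subgroupOrderIsoSubgroupMonoidHom, Subgroup.index_eq_card]
  have h := congrArg (Nat.cast : ℕ → ZMod (p ^ 2)) (card_prime_subgroups (Q := Q →* ℂˣ) hD)
  rw [← hN, hcardD, show e = 2 + (e - 2) by omega, pow_add, Nat.cast_mul (p ^ 2) _,
    ZMod.natCast_self, zero_mul] at h
  push_cast [Nat.cast_sub hp.out.one_le] at h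
  linear_combination ((-1 : ZMod (p ^ 2)) - p) * h +
    ((Nat.card {H : Subgroup Q // H.index = p} : ℕ) : ZMod (p ^ 2)) * p_sq (p := p)

end Elementary

section PGroup

variable (P : Type*) [Group P]

/-- The subgroup generated by the `p`-th powers and the commutators. -/
def phi (p : ℕ) : Subgroup P := Subgroup.closure (Set.range fun x : P => x ^ p) ⊔ commutator P

variable {P}

theorem pow_mem_phi (x : P) : x ^ p ∈ phi P p :=
  Subgroup.mem_sup_left (Subgroup.subset_closure ⟨x, rfl⟩)

omit hp in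
theorem normal_of_commutator_le {J : Subgroup P} (hJ : commutator P ≤ J) : J.Normal := by
  refine ⟨fun a ha g => ?_⟩
  have h : g * a * g⁻¹ * a⁻¹ ∈ J :=
    hJ (Subgroup.commutator_mem_commutator (Subgroup.mem_top g) (Subgroup.mem_top a))
  simpa using J.mul_mem h ha

theorem phi_le_of_index [Finite P] (hP : IsPGroup p P) {M : Subgroup P} (hM : M.index = p) :
    phi P p ≤ M := by
  obtain ⟨k, hk⟩ := IsPGroup.iff_card.mp hP
  have hk0 : k ≠ 0 := by
    rintro rfl
    have h1 := M.index_dvd_card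
    rw [hM, hk, pow_zero] at h1
    exact hp.out.not_dvd_one h1
  haveI : M.Normal := Subgroup.normal_of_index_eq_minFac_card
    (by rw [hM, hk, Nat.Prime.pow_minFac hp.out hk0])
  haveI : IsCyclic (P ⧸ M) := isCyclic_of_prime_card (p := p) (by rw [← Subgroup.index_eq_card, hM])
  refine sup_le ((Subgroup.closure_le _).mpr ?_) ?_
  · rintro _ ⟨x, rfl⟩
    have := M.pow_index_mem x
    rwa [hM] at this
  · have := (inferInstance : IsCyclic (P ⧸ M))
    exact (Subgroup.Normal.quotient_commutative_iff_commutator_le).mp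
      ⟨⟨fun a b => (IsCyclic.commGroup (α := P ⧸ M)).mul_comm a b⟩⟩

/-- The subgroups of index `p ^ i` above `phi`. -/
noncomputable def countAbove (J : Subgroup P) (i : ℕ) : ℕ :=
  Nat.card {K : Subgroup P // K.index = p ^ i ∧ J ≤ K}

theorem countAbove_eq [Finite P] (J : Subgroup P) [J.Normal] (i : ℕ) :
    countAbove (p := p) J i = Nat.card {K : Subgroup (P ⧸ J) // K.index = p ^ i} := by
  refine Nat.card_congr
    { toFun := fun K => ⟨K.1.map (QuotientGroup.mk' J), ?_⟩
      invFun := fun K => ⟨K.1.comap (QuotientGroup.mk' J), ?_, ?_⟩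
      left_inv := fun K => Subtype.ext ?_
      right_inv := fun K => Subtype.ext ?_ }
  · rw [Subgroup.index_map_eq _ (QuotientGroup.mk'_surjective J)
      (by rw [QuotientGroup.ker_mk']; exact K.2.2)]
    exact K.2.1
  · rw [Subgroup.index_comap_of_surjective _ (QuotientGroup.mk'_surjective J)]
    exact K.2
  · exact QuotientGroup.le_comap_mk' J K.1
  · show (K.1.map _).comap _ = K.1
    rw [Subgroup.comap_map_eq, QuotientGroup.ker_mk', sup_eq_left.mpr K.2.2]
  · exact Subgroup.map_comap_eq_self_of_surjective (QuotientGroup.mk'_surjective J) K.1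

theorem quotient_facts (J : Subgroup P) [J.Normal] (hJ : phi P p ≤ J) :
    (∀ a b : P ⧸ J, a * b = b * a) ∧ ∀ x : P ⧸ J, x ^ p = 1 := by
  refine ⟨fun a b => ((Subgroup.Normal.quotient_commutative_iff_commutator_le).mpr
    (le_sup_right.trans hJ)).is_comm.comm a b, fun x => ?_⟩
  induction x using QuotientGroup.induction_on with
  | H g => rw [← QuotientGroup.mk_pow, QuotientGroup.eq_one_iff]; exact hJ (pow_mem_phi g)

theorem cast_countAbove_one [Finite P] (J : Subgroup P) [J.Normal] (hJ : phi P p ≤ J) {e : ℕ}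
    (he : J.index = p ^ e) (he2 : 2 ≤ e) :
    (countAbove (p := p) J 1 : ZMod (p ^ 2)) = 1 + p := by
  rw [countAbove_eq, pow_one]
  obtain ⟨hc, hel⟩ := quotient_facts J hJ
  exact cast_card_hyperplanes hc hel (by rw [← Subgroup.index_eq_card, he]) he2

theorem p_mul_countAbove_two [Finite P] (J : Subgroup P) [J.Normal] {e : ℕ}
    (he : J.index = p ^ e) (he2 : 2 ≤ e) :
    (p : ZMod (p ^ 2)) * countAbove (p := p) J 2 = p := by
  classical
  rw [countAbove_eq]
  have hcard : Nat.card (P ⧸ J) = p ^ e := by rw [← Subgroup.index_eq_card, he]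
  have h := CfsgLib.Frobenius.card_subgroups_modEq_one hp.out (G := P ⧸ J) (e - 2)
    (hcard ▸ pow_dvd_pow p (by omega))
  have heq : Nat.card {K : Subgroup (P ⧸ J) // K.index = p ^ 2} =
      Nat.card {K : Subgroup (P ⧸ J) // Nat.card K = p ^ (e - 2)} := by
    refine Nat.card_congr (Equiv.subtypeEquivRight fun K => ?_)
    have h1 := K.card_mul_index
    rw [hcard, show p ^ e = p ^ (e - 2) * p ^ 2 by rw [← pow_add]; congr 1; omega] at h1
    constructor
    · intro h2
      rw [h2] at h1
      exact Nat.eq_of_mul_eq_mul_right (pow_pos hp.out.pos 2) h1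
    · intro h2
      rw [h2] at h1
      exact Nat.eq_of_mul_eq_mul_left (pow_pos hp.out.pos _) h1
  rw [heq, natCast_modEq h, Nat.cast_one, mul_one]

theorem exists_index_prime [Finite P] (hP : IsPGroup p P) {H : Subgroup P} (hH : H ≠ ⊤) :
    ∃ M : Subgroup P, M.index = p ∧ H ≤ M := by
  obtain ⟨k, hk⟩ := IsPGroup.iff_card.mp hP
  obtain ⟨a, ha⟩ := IsPGroup.iff_card.mp (hP.to_subgroup H)
  have hak : a < k := by
    by_contra h
    exact hH (H.eq_top_of_card_eq (le_antisymm H.card_le_card_group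
      (by rw [hk, ha]; exact Nat.pow_le_pow_right hp.out.pos (by omega))))
  obtain ⟨M, hM, hHM⟩ := Sylow.exists_subgroup_card_pow_prime_le p (n := a) (m := k - 1)
    (by rw [hk]; exact pow_dvd_pow p (by omega)) H ha (by omega)
  refine ⟨M, ?_, hHM⟩
  have h1 := M.card_mul_index
  rw [hM, hk, show k = k - 1 + 1 by omega, pow_succ, Nat.add_sub_cancel] at h1
  exact Nat.eq_of_mul_eq_mul_left (pow_pos hp.out.pos _) h1

theorem cast_count_containing [Finite P] (hP : IsPGroup p P) {H : Subgroup P} (hH : H ≠ ⊤) :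
    (Nat.card {M : Subgroup P // M.index = p ∧ H ≤ M} : ZMod (p ^ 2)) =
      1 + p * countAbove (p := p) (H ⊔ phi P p) 2 := by
  set J := H ⊔ phi P p with hJdef
  haveI : J.Normal := normal_of_commutator_le ((le_sup_right (a := Subgroup.closure
    (Set.range fun x : P => x ^ p))).trans (le_sup_right (a := H)))
  have heq : Nat.card {M : Subgroup P // M.index = p ∧ H ≤ M} = countAbove (p := p) J 1 := by
    unfold countAbove
    refine Nat.card_congr (Equiv.subtypeEquivRight fun M => ?_)
    rw [pow_one]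
    exact ⟨fun h => ⟨h.1, sup_le h.2 (phi_le_of_index hP h.1)⟩,
      fun h => ⟨h.1, le_sup_left.trans h.2⟩⟩
  rw [heq]
  obtain ⟨e, he⟩ := hP.index J
  obtain ⟨M, hM, hHM⟩ := exists_index_prime hP hH
  have he0 : e ≠ 0 := by
    rintro rfl
    rw [pow_zero, Subgroup.index_eq_one] at he
    have : M = ⊤ := eq_top_iff.mpr (he ▸ sup_le hHM (phi_le_of_index hP hM))
    rw [this, Subgroup.index_top] at hM
    exact hp.out.one_lt.ne hM
  rcases eq_or_lt_of_le (Nat.one_le_iff_ne_zero.mpr he0) with h1 | h1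
  · subst h1
    rw [pow_one] at he
    have hone : ∀ K : Subgroup P, J ≤ K → K.index ∣ p := fun K hK =>
      he ▸ Subgroup.index_dvd_of_le hK
    have e1 : countAbove (p := p) J 1 = 1 := by
      rw [countAbove, Nat.card_eq_one_iff_unique]
      refine ⟨⟨fun K L => Subtype.ext ?_⟩, ⟨⟨J, by rw [pow_one]; exact he, le_rfl⟩⟩⟩
      have hKJ : ∀ K : {K : Subgroup P // K.index = p ^ 1 ∧ J ≤ K}, J = K.1 := fun K => by
        refine le_antisymm K.2.2 (Subgroup.relIndex_eq_one.mp ?_)
        have h := Subgroup.relIndex_mul_index K.2.2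
        have hKi : K.1.index = p := K.2.1.trans (pow_one p)
        rw [hKi, he] at h
        exact Nat.eq_of_mul_eq_mul_right hp.out.pos (h.trans (one_mul p).symm)
      rw [← hKJ K, ← hKJ L]
    have e2 : countAbove (p := p) J 2 = 0 := by
      rw [countAbove, Nat.card_eq_zero]
      refine Or.inl ⟨fun K => ?_⟩
      have h := Nat.le_of_dvd hp.out.pos (K.2.1 ▸ hone K.1 K.2.2)
      have := hp.out.one_lt
      nlinarith
    rw [e1, e2]
    simp
  · rw [cast_countAbove_one J le_sup_right he h1, p_mul_countAbove_two J he h1]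

/-- The number of subgroups of order `p ^ a` inside `K`. -/
noncomputable def countIn (a : ℕ) (K : Subgroup P) : ℕ :=
  Nat.card {H : Subgroup P // Nat.card H = p ^ a ∧ H ≤ K}

omit hp in
theorem countIn_eq [Finite P] (a : ℕ) (K : Subgroup P) :
    countIn (p := p) a K = Nat.card {H : Subgroup K // Nat.card H = p ^ a} := by
  refine Nat.card_congr
    { toFun := fun H => ⟨H.1.subgroupOf K, ?_⟩
      invFun := fun H => ⟨H.1.map K.subtype, ?_, Subgroup.map_subtype_le _⟩
      left_inv := fun H => Subtype.ext ?_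
      right_inv := fun H => Subtype.ext ?_ }
  · rw [Nat.card_congr (Subgroup.subgroupOfEquivOfLe H.2.2).toEquiv]; exact H.2.1
  · rw [Subgroup.card_map_of_injective (Subgroup.subtype_injective _)]; exact H.2
  · exact Subgroup.map_subgroupOf_eq_of_le H.2.2
  · exact Subgroup.comap_map_eq_self_of_injective K.subtype_injective H.1

open Finset in
theorem sum_countIn [Finite P] (hP : IsPGroup p P) (a : ℕ) (ha : p ^ a < Nat.card P)
    [Fintype (Subgroup P)] [DecidableEq (Subgroup P)] [∀ A B : Subgroup P, Decidable (A ≤ B)] :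
    (∑ M ∈ univ.filter (fun M : Subgroup P => M.index = p), (countIn (p := p) a M : ZMod (p ^ 2))) =
      (Nat.card {H : Subgroup P // Nat.card H = p ^ a} : ZMod (p ^ 2)) +
        p * ∑ K ∈ univ.filter (fun K : Subgroup P => K.index = p ^ 2 ∧ phi P p ≤ K),
          (countIn (p := p) a K : ZMod (p ^ 2)) := by
  classical
  set S := univ.filter (fun H : Subgroup P => Nat.card H = p ^ a)
  have hin : ∀ K : Subgroup P, countIn (p := p) a K = (S.filter (fun H => H ≤ K)).card := fun K => by
    rw [countIn, filter_filter, Nat.card_eq_fintype_card, Fintype.card_subtype]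
  have hswap : ∀ T : Finset (Subgroup P), ∑ K ∈ T, (countIn (p := p) a K : ZMod (p ^ 2)) =
      ∑ H ∈ S, ((T.filter (fun K => H ≤ K)).card : ZMod (p ^ 2)) := fun T => by
    simp only [hin, card_filter, Nat.cast_sum]
    exact sum_comm
  rw [hswap, hswap, mul_sum]
  have hS : (Nat.card {H : Subgroup P // Nat.card H = p ^ a} : ZMod (p ^ 2)) =
      ∑ _H ∈ S, (1 : ZMod (p ^ 2)) := by
    rw [sum_const, nsmul_one, Nat.card_eq_fintype_card, Fintype.card_subtype]
  rw [hS, ← sum_add_distrib]
  refine sum_congr rfl fun H hH => ?_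
  have hHt : H ≠ ⊤ := fun h => by
    have := (mem_filter.mp hH).2
    rw [h, Subgroup.card_top] at this
    omega
  have h := cast_count_containing hP hHt
  rw [countAbove] at h
  simp only [Nat.card_eq_fintype_card, Fintype.card_subtype] at h
  rw [filter_filter, filter_filter]
  convert h using 5
  ext K
  simp only [mem_filter, mem_univ, true_and, sup_le_iff]
  exact ⟨fun h => ⟨h.1.1, h.2, h.1.2⟩, fun h => ⟨⟨h.1, h.2.2⟩, h.2.1⟩⟩

theorem exists_noncyclic_unique [Finite P] (hP : IsPGroup p P) (hp2 : p ≠ 2) {n : ℕ}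
    (hn : Nat.card P = p ^ n) (hn3 : 3 ≤ n) (hnc : ¬ IsCyclic P) {A : Subgroup P}
    (hA : IsCyclic A) (hAi : A.index = p) :
    ∃ M : Subgroup P, M.index = p ∧ ¬ IsCyclic M ∧
      ∀ L : Subgroup P, L.index = p → ¬ IsCyclic L → L = M := by
  obtain ⟨-, W, hWc, hWe, hW⟩ := CfsgLib.CyclicMax.pow_hom_ker hP hp2 hnc hA hAi
  have hnWc : ∀ B : Subgroup P, W ≤ B → ¬ IsCyclic B := by
    intro B hWB hB
    haveI := hB
    have hWcyc : IsCyclic W := Subgroup.isCyclic_of_le hWB
    obtain ⟨w, hw⟩ := hWcyc.exists_ofOrder_eq_natCard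
    have h1 : orderOf w ∣ p := orderOf_dvd_of_pow_eq_one (Subtype.ext (by
      simpa using (hW w).mp w.2))
    rw [hw, hWc] at h1
    have := Nat.le_of_dvd hp.out.pos h1
    have := hp.out.one_lt
    nlinarith
  have hWt : W ≠ ⊤ := fun h => by
    have h1 : p ^ 2 = p ^ n := by rw [← hWc, h, Subgroup.card_top, hn]
    have := Nat.pow_right_injective hp.out.two_le h1
    omega
  obtain ⟨M, hM, hWM⟩ := exists_index_prime hP hWt
  refine ⟨M, hM, hnWc M hWM, fun L hL hLnc => ?_⟩
  obtain ⟨l, hl⟩ := IsPGroup.iff_card.mp (hP.to_subgroup L)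
  have hl2 : 2 ≤ l := by
    have h1 := L.card_mul_index
    rw [hL, hl, hn, ← pow_succ] at h1
    have := Nat.pow_right_injective hp.out.two_le h1
    omega
  have hWL : W ≤ L := by
    by_contra hWL
    refine hLnc (Cfsg.Agent.S3977.aux hp.out le_rfl (Or.inl hp2) l L hl (by omega)
      fun H K hH hK => ?_)
    rw [pow_one] at hH hK
    have hlt : Nat.card ↥(W ⊓ L) ≤ p := by
      obtain ⟨i, hi⟩ := IsPGroup.iff_card.mp (hP.to_subgroup (W ⊓ L))
      have hi2 : i < 2 := by
        by_contra hi2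
        refine hWL (inf_eq_left.mp (Subgroup.eq_of_le_of_card_ge inf_le_left ?_))
        rw [hWc, hi]
        exact Nat.pow_le_pow_right hp.out.pos (by omega)
      rw [hi]
      calc p ^ i ≤ p ^ 1 := Nat.pow_le_pow_right hp.out.pos (by omega)
        _ = p := pow_one p
    have hmem : ∀ H : Subgroup L, Nat.card H = p → H.map L.subtype = W ⊓ L := fun H hH => by
      refine Subgroup.eq_of_le_of_card_ge (le_inf ?_ (Subgroup.map_subtype_le _)) ?_
      · rintro _ ⟨u, hu, rfl⟩
        refine (hW _).mpr ?_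
        have h1 := pow_card_eq_one' (x := (⟨u, hu⟩ : H))
        rw [hH] at h1
        have h2 := congrArg (fun v : H => ((v : L) : P)) h1
        simpa using h2
      · rw [Subgroup.card_map_of_injective L.subtype_injective, hH]
        exact hlt
    exact Subgroup.map_injective L.subtype_injective ((hmem H hH).trans (hmem K hK).symm)
  -- both contain the join of `W` with `phi`
  have hphiA := phi_le_of_index hP hAi
  set B := W ⊔ phi P p with hB
  obtain ⟨i, hi⟩ := IsPGroup.iff_card.mp (hP.to_subgroup B)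
  obtain ⟨t, ht⟩ := IsPGroup.iff_card.mp (hP.to_subgroup (phi P p))
  have hAc : Nat.card A = p ^ (n - 1) := by
    have h1 := A.card_mul_index
    rw [hAi, hn, show n = n - 1 + 1 by omega, pow_succ] at h1
    exact Nat.eq_of_mul_eq_mul_right hp.out.pos h1
  obtain ⟨g, hg⟩ := hA.exists_ofOrder_eq_natCard
  have hgp : Nat.card (Subgroup.zpowers ((g : P) ^ p)) = p ^ (n - 2) := by
    rw [Nat.card_zpowers, orderOf_pow' _ hp.out.ne_zero, Subgroup.orderOf_coe, hg, hAc,
      Nat.gcd_eq_right (dvd_pow_self p (by omega)), show n - 1 = n - 2 + 1 by omega, pow_succ,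
      Nat.mul_div_cancel _ hp.out.pos]
  have hti : n - 2 ≤ t := by
    refine (Nat.pow_le_pow_iff_right hp.out.one_lt).mp ?_
    rw [← hgp, ← ht]
    exact Subgroup.card_le_of_le (Subgroup.zpowers_le.mpr (pow_mem_phi _))
  have htlt : t < i := by
    refine (Nat.pow_lt_pow_iff_right hp.out.one_lt).mp ?_
    rw [← ht, ← hi]
    by_contra hle
    have heq : phi P p = B := Subgroup.eq_of_le_of_card_ge le_sup_right (by omega)
    exact hnWc A (le_sup_left.trans (heq.symm.le.trans hphiA)) hA
  have hMB : B = M ∧ B = L := by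
    have hc : ∀ K : Subgroup P, K.index = p → B ≤ K → B = K := fun K hK hle => by
      refine Subgroup.eq_of_le_of_card_ge hle ?_
      have h1 := K.card_mul_index
      rw [hK, hn, show n = n - 1 + 1 by omega, pow_succ] at h1
      rw [Nat.eq_of_mul_eq_mul_right hp.out.pos h1, hi]
      exact Nat.pow_le_pow_right hp.out.pos (by omega)
    exact ⟨hc M hM (sup_le hWM (phi_le_of_index hP hM)),
      hc L hL (sup_le hWL (phi_le_of_index hP hL))⟩
  exact hMB.2.symm.trans hMB.1

theorem phi_index_two_le [Finite P] (hP : IsPGroup p P) (hnc : ¬ IsCyclic P) :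
    ∃ e, (phi P p).index = p ^ e ∧ 2 ≤ e := by
  haveI : (phi P p).Normal := normal_of_commutator_le le_sup_right
  obtain ⟨e, he⟩ := hP.index (phi P p)
  refine ⟨e, he, ?_⟩
  by_contra hlt
  have hdvd : Nat.card (P ⧸ phi P p) ∣ p := by
    rw [← Subgroup.index_eq_card, he]
    exact (pow_dvd_pow p (show e ≤ 1 by omega)).trans (pow_one p).dvd
  have hcyc : IsCyclic (P ⧸ phi P p) := by
    rcases (Nat.dvd_prime hp.out).mp hdvd with h | h
    · haveI := (Nat.card_eq_one_iff_unique.mp h).1
      exact inferInstance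
    · exact isCyclic_of_prime_card h
  obtain ⟨q, hq⟩ := hcyc.exists_generator
  obtain ⟨x, rfl⟩ := QuotientGroup.mk_surjective q
  refine hnc ⟨⟨x, fun g => ?_⟩⟩
  by_cases ht : Subgroup.zpowers x = ⊤
  · exact Subgroup.mem_zpowers_iff.mp (ht ▸ Subgroup.mem_top g : g ∈ Subgroup.zpowers x)
  exfalso
  obtain ⟨M, hM, hxM⟩ := exists_index_prime hP ht
  refine hp.out.one_lt.ne' ?_
  rw [← hM, Subgroup.index_eq_one, Subgroup.eq_top_iff']
  intro g
  obtain ⟨i, hi⟩ := Subgroup.mem_zpowers_iff.mp (hq g)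
  rw [← QuotientGroup.mk_zpow, QuotientGroup.eq] at hi
  have h2 := M.mul_mem (M.zpow_mem (hxM (Subgroup.mem_zpowers x)) i) (phi_le_of_index hP hM hi)
  rwa [mul_inv_cancel_left] at h2

end PGroup

universe u

/-- **Kulakoff**: in a noncyclic `p`-group, `p` odd, the subgroups of each intermediate order
number `1 + p` modulo `p ^ 2`. -/
theorem pgroup_count (hp2 : p ≠ 2) : ∀ (n : ℕ) (P : Type u) [Group P] [Finite P],
    Nat.card P = p ^ n → ¬ IsCyclic P → ∀ a, 1 ≤ a → a < n →
      (Nat.card {H : Subgroup P // Nat.card H = p ^ a} : ZMod (p ^ 2)) = 1 + p := by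
  intro n
  induction n with
  | zero => intro P _ _ _ _ a _ h; omega
  | succ n ih =>
  intro P _ _ hn hnc a ha1 ha
  have hP : IsPGroup p P := IsPGroup.of_card hn
  obtain ⟨e, he, he2⟩ := phi_index_two_le hP hnc
  haveI : (phi P p).Normal := normal_of_commutator_le le_sup_right
  have hmax := cast_countAbove_one (phi P p) le_rfl he he2
  rcases eq_or_lt_of_le (Nat.lt_succ_iff.mp ha) with rfl | hlt
  · rw [← hmax, countAbove]
    congr 1
    refine Nat.card_congr (Equiv.subtypeEquivRight fun H => ?_)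
    rw [pow_one]
    have h1 := H.card_mul_index
    rw [hn, pow_succ] at h1
    constructor
    · intro h
      rw [h] at h1
      have h2 := Nat.eq_of_mul_eq_mul_left (pow_pos hp.out.pos _) h1
      exact ⟨h2, phi_le_of_index hP h2⟩
    · rintro ⟨h, -⟩
      rw [h] at h1
      exact Nat.eq_of_mul_eq_mul_right hp.out.pos h1
  classical
  haveI := Fintype.ofFinite (Subgroup P)
  have hsum := sum_countIn hP a (by rw [hn]; exact Nat.pow_lt_pow_right hp.out.one_lt ha)
  have hK : (p : ZMod (p ^ 2)) *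
      ∑ K ∈ Finset.univ.filter (fun K : Subgroup P => K.index = p ^ 2 ∧ phi P p ≤ K),
        (countIn (p := p) a K : ZMod (p ^ 2)) = p := by
    rw [Finset.mul_sum, Finset.sum_congr rfl (g := fun _ => (p : ZMod (p ^ 2))) fun K hK => by
      have hKi := (Finset.mem_filter.mp hK).2.1
      have h1 := K.card_mul_index
      rw [hKi, hn] at h1
      rw [countIn_eq, natCast_modEq (CfsgLib.Frobenius.card_subgroups_modEq_one hp.out (G := K) a
        ?_), Nat.cast_one, mul_one]
      obtain ⟨k, hk⟩ := IsPGroup.iff_card.mp (hP.to_subgroup K)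
      rw [hk, ← pow_add] at h1
      have := Nat.pow_right_injective hp.out.two_le h1
      rw [hk]
      exact pow_dvd_pow p (by omega),
      Finset.sum_const, nsmul_eq_mul, mul_comm]
    have h2 := p_mul_countAbove_two (phi P p) he he2
    rwa [countAbove, Nat.card_eq_fintype_card, Fintype.card_subtype] at h2
  set T := Finset.univ.filter (fun M : Subgroup P => M.index = p) with hT
  have hTc : (T.card : ZMod (p ^ 2)) = 1 + p := by
    rw [← hmax, countAbove, Nat.card_eq_fintype_card, Fintype.card_subtype, hT]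
    congr 2
    ext M
    simp only [Finset.mem_filter, Finset.mem_univ, true_and, pow_one]
    exact ⟨fun h => ⟨h, phi_le_of_index hP h⟩, fun h => h.1⟩
  have hMcard : ∀ M ∈ T, Nat.card M = p ^ n := fun M hM => by
    have h1 := M.card_mul_index
    rw [(Finset.mem_filter.mp hM).2, hn, pow_succ] at h1
    exact Nat.eq_of_mul_eq_mul_right hp.out.pos h1
  have hcyc : ∀ M ∈ T, IsCyclic M → (countIn (p := p) a M : ZMod (p ^ 2)) = 1 := by
    intro M hM hMc
    rw [countIn_eq, show Nat.card {H : Subgroup M // Nat.card H = p ^ a} = 1 from ?_, Nat.cast_one]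
    rw [Nat.card_eq_one_iff_unique]
    refine ⟨⟨fun H K => Subtype.ext (eq_of_card_cyclic H.1 K.1 (H.2.trans K.2.symm))⟩, ?_⟩
    obtain ⟨H, hH⟩ := Sylow.exists_subgroup_card_pow_prime p (G := M) (n := a)
      (by rw [hMcard M hM]; exact pow_dvd_pow p hlt.le)
    exact ⟨⟨H, hH⟩⟩
  have hncyc : ∀ M ∈ T, ¬ IsCyclic M → (countIn (p := p) a M : ZMod (p ^ 2)) = 1 + p :=
    fun M hM hMc => by
      rw [countIn_eq]
      exact ih M (hMcard M hM) hMc a ha1 hlt
  have hS : ∑ M ∈ T, (countIn (p := p) a M : ZMod (p ^ 2)) = 1 + p + p := by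
    by_cases hall : ∀ M ∈ T, ¬ IsCyclic M
    · rw [Finset.sum_congr rfl fun M hM => hncyc M hM (hall M hM), Finset.sum_const,
        nsmul_eq_mul, hTc]
      linear_combination p_sq (p := p)
    · push Not at hall
      obtain ⟨A, hA, hAc⟩ := hall
      obtain ⟨M, hM, hMnc, huniq⟩ := exists_noncyclic_unique hP hp2 hn (by omega) hnc hAc
        (Finset.mem_filter.mp hA).2
      have hMT : M ∈ T := by simp [hT, hM]
      rw [← Finset.add_sum_erase T _ hMT, hncyc M hMT hMnc,
        Finset.sum_congr rfl (g := fun _ => (1 : ZMod (p ^ 2))) fun L hL => by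
          obtain ⟨hne, hLT⟩ := Finset.mem_erase.mp hL
          refine hcyc L hLT ?_
          by_contra hLc
          exact hne (huniq L (Finset.mem_filter.mp hLT).2 hLc),
        Finset.sum_const, nsmul_one, Finset.card_erase_of_mem hMT,
        Nat.cast_sub (Finset.card_pos.mpr ⟨M, hMT⟩), hTc]
      push_cast
      ring
  rw [hS, hK] at hsum
  linear_combination -hsum

end CfsgLib.Kulakoff
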