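import Cfsg.Agent.Lib.Frobenius.KulakoffTwoFacts

/-!
# Counting subgroups of a `2`-group modulo four
-/

set_option autoImplicit false
set_option linter.style.haveILetI false

namespace CfsgLib.KulakoffTwo

open Subgroup CfsgLib.Kulakoff

universe u

theorem MC_iff_class {X : Type u} [Group X] [Finite X] {m : ℕ} (hX : Nat.card X = 2 ^ m) (hm : 2 ≤ m) :
    MC X ↔ Group.nilpotencyClass X = m - 1 := by
  haveI : Fact (Nat.Prime 2) := ⟨Nat.prime_two⟩
  haveI : Group.IsNilpotent X := (IsPGroup.of_card hX).isNilpotent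
  rcases eq_or_lt_of_le hm with rfl | hm3
  · have hab := IsPGroup.isMulCommutative_of_card_eq_prime_sq (p := 2) hX
    have hb : commutator X = ⊥ := by
      rw [_root_.commutator_def, Subgroup.commutator_eq_bot_iff_le_centralizer]
      exact fun a _ b _ => hab.is_comm.comm b a
    have hle : Group.nilpotencyClass X ≤ 1 :=
      Subgroup.lowerCentralSeries_eq_bot_iff_nilpotencyClass_le.mp
        ((Subgroup.top_lowerCentralSeries_one).trans hb)
    have hne : Group.nilpotencyClass X ≠ 0 := by
      intro h0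
      have := Group.nilpotencyClass_zero_iff_subsingleton.mp h0
      rw [Nat.card_of_subsingleton (1 : X)] at hX
      norm_num at hX
    rw [MC, hb, Subgroup.card_bot, hX]
    norm_num
    omega
  · constructor
    · intro h
      refine (CfsgLib.MaxClass.taussky m X hm3 hX ?_).1
      rw [MC, hX] at h
      rw [show m = m - 2 + 2 by omega, pow_add] at h
      omega
    · intro h
      rw [MC, CfsgLib.MaxClass.card_commutator_of_maximal hm3 hX h, hX]
      conv_rhs => rw [show m = m - 2 + 2 by omega, pow_add]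
      ring

open scoped _root_.Classical in
/-- Kulakoff for `p = 2`. -/
theorem two_count : ∀ (m : ℕ) (X : Type u) [Group X] [Finite X], Nat.card X = 2 ^ m → ¬ IsCyclic X →
    ∀ k, 1 ≤ k → k < m →
      (Nat.card {H : Subgroup X // Nat.card H = 2 ^ k} : ZMod (2 ^ 2)) =
        if MC X ∧ k + 2 ≤ m then 1 else 3 := by
  haveI : Fact (Nat.Prime 2) := ⟨Nat.prime_two⟩
  intro m
  induction m with
  | zero => intro X _ _ _ _ k _ h; omega
  | succ n ih =>
  intro X _ _ hn hnc k hk1 hk
  have hP : IsPGroup 2 X := IsPGroup.of_card hn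
  obtain ⟨e, he, he2⟩ := phi_index_two_le hP hnc
  haveI : (phi X 2).Normal := normal_of_commutator_le le_sup_right
  have hmax := cast_countAbove_one (phi X 2) le_rfl he he2
  rcases eq_or_lt_of_le (Nat.lt_succ_iff.mp hk) with rfl | hlt
  · rw [if_neg (fun h => by omega), show (3 : ZMod (2 ^ 2)) = 1 + ((2 : ℕ) : ZMod (2 ^ 2)) by decide,
      ← hmax, countAbove]
    congr 1
    refine Nat.card_congr (Equiv.subtypeEquivRight fun H => ?_)
    rw [pow_one]
    have h1 := H.card_mul_index
    rw [hn, pow_succ] at h1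
    constructor
    · intro h
      rw [h] at h1
      have h2 := Nat.eq_of_mul_eq_mul_left (Nat.two_pow_pos _) h1
      exact ⟨h2, phi_le_of_index hP h2⟩
    · rintro ⟨h, -⟩
      rw [h] at h1
      omega
  haveI := Fintype.ofFinite (Subgroup X)
  have hsum := sum_countIn hP k (by rw [hn]; exact Nat.pow_lt_pow_right one_lt_two hk)
  have hK : ((2 : ℕ) : ZMod (2 ^ 2)) *
      ∑ K ∈ Finset.univ.filter (fun K : Subgroup X => K.index = 2 ^ 2 ∧ phi X 2 ≤ K),
        (countIn (p := 2) k K : ZMod (2 ^ 2)) = ((2 : ℕ) : ZMod (2 ^ 2)) := by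
    rw [Finset.mul_sum, Finset.sum_congr rfl (g := fun _ => ((2 : ℕ) : ZMod (2 ^ 2))) fun K hK => by
      have hKi := (Finset.mem_filter.mp hK).2.1
      have h1 := K.card_mul_index
      rw [hKi, hn] at h1
      rw [countIn_eq, natCast_modEq (CfsgLib.Frobenius.card_subgroups_modEq_one Nat.prime_two (G := K) k
        ?_), Nat.cast_one, mul_one]
      obtain ⟨j, hj⟩ := IsPGroup.iff_card.mp (hP.to_subgroup K)
      rw [hj, ← pow_add] at h1
      have := Nat.pow_right_injective le_rfl h1
      rw [hj]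
      exact pow_dvd_pow 2 (by omega),
      Finset.sum_const, nsmul_eq_mul, mul_comm]
    have h2 := p_mul_countAbove_two (phi X 2) he he2
    rwa [countAbove, Nat.card_eq_fintype_card, Fintype.card_subtype] at h2
  rw [hK] at hsum
  set T := Finset.univ.filter (fun M : Subgroup X => M.index = 2) with hT
  have hTc : (T.card : ZMod (2 ^ 2)) = 1 + ((2 : ℕ) : ZMod (2 ^ 2)) := by
    rw [← hmax, countAbove, Nat.card_eq_fintype_card, Fintype.card_subtype, hT]
    congr 2
    ext M
    simp only [Finset.mem_filter, Finset.mem_univ, true_and, pow_one]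
    exact ⟨fun h => ⟨h, phi_le_of_index hP h⟩, fun h => h.1⟩
  have hT4 : T.card % 4 = 3 := by
    have h := congrArg ZMod.val hTc
    rw [ZMod.val_natCast] at h
    exact h
  have hMcard : ∀ M ∈ T, Nat.card M = 2 ^ n := fun M hM =>
    card_of_index_two hn (Finset.mem_filter.mp hM).2
  set Bad : Subgroup X → Prop := fun M => IsCyclic M ∨ (MC M ∧ k + 2 ≤ n) with hBad
  have hval : ∀ M ∈ T, (countIn (p := 2) k M : ZMod (2 ^ 2)) =
      3 + (2 : ZMod (2 ^ 2)) * (if Bad M then 1 else 0) := by
    intro M hM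
    rw [countIn_eq]
    by_cases hc : IsCyclic M
    · rw [if_pos (show Bad M from Or.inl hc),
        show Nat.card {H : Subgroup M // Nat.card H = 2 ^ k} = 1 from ?_]
      · decide
      rw [Nat.card_eq_one_iff_unique]
      refine ⟨⟨fun H K => Subtype.ext (Kulakoff.eq_of_card_cyclic H.1 K.1 (H.2.trans K.2.symm))⟩, ?_⟩
      obtain ⟨H, hH⟩ := Sylow.exists_subgroup_card_pow_prime 2 (G := M) (n := k)
        (by rw [hMcard M hM]; exact pow_dvd_pow 2 hlt.le)
      exact ⟨⟨H, hH⟩⟩
    · rw [ih M (hMcard M hM) hc k hk1 hlt]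
      by_cases h : MC M ∧ k + 2 ≤ n
      · rw [if_pos h, if_pos (show Bad M from Or.inr h)]; decide
      · rw [if_neg h, if_neg (show ¬ Bad M from fun hb => hb.elim hc h)]; decide
  set b := (T.filter Bad).card with hb
  rw [Finset.sum_congr rfl hval, Finset.sum_add_distrib, Finset.sum_const, nsmul_eq_mul, hTc,
    ← Finset.mul_sum, Finset.sum_boole, ← hb] at hsum
  have hs : (Nat.card {H : Subgroup X // Nat.card H = 2 ^ k} : ZMod (2 ^ 2)) =
      3 + (2 : ZMod (2 ^ 2)) * b := by
    have e : ((1 + ((2 : ℕ) : ZMod (2 ^ 2))) * 3) = 3 + ((2 : ℕ) : ZMod (2 ^ 2)) + 0 := by decide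
    rw [e] at hsum
    linear_combination -hsum
  suffices hpar : b % 2 = if MC X ∧ k + 2 ≤ n + 1 then 1 else 0 by
    rw [hs, ← Nat.mod_add_div b 2, hpar]
    push_cast
    have h4 : (2 : ZMod (2 ^ 2)) * 2 = 0 := by decide
    have h5 : (3 : ZMod (2 ^ 2)) + 2 = 1 := by decide
    split_ifs
    · linear_combination ((b / 2 : ℕ) : ZMod (2 ^ 2)) * h4 + h5
    · linear_combination ((b / 2 : ℕ) : ZMod (2 ^ 2)) * h4
  obtain ⟨n', rfl⟩ : ∃ n', n = n' + 2 := ⟨n - 2, by omega⟩
  by_cases hmc : MC X
  · rw [if_pos ⟨hmc, by omega⟩]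
    obtain ⟨d⟩ := nonempty_maxData (X := X) (m := n') hn hmc
    have hCT : d.C ∈ T := by simp [hT, d.index_C]
    by_cases hk3 : k + 2 ≤ n' + 2
    · have hall : T.filter Bad = T := Finset.filter_true_of_mem fun M hM =>
        (d.cyclic_or_MC (Finset.mem_filter.mp hM).2).imp id fun h => ⟨h, hk3⟩
      rw [hb, hall]
      omega
    · have hfe : T.filter Bad = T.filter (fun M : Subgroup X => IsCyclic M) :=
        Finset.filter_congr fun M _ => ⟨fun h => h.elim id fun h => absurd h.2 hk3, Or.inl⟩
      rw [hb, hfe]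
      by_cases h2 : ∃ L ∈ T, L ≠ d.C ∧ IsCyclic L
      · obtain ⟨L, hL, hne, hc⟩ := h2
        rw [Finset.filter_true_of_mem (s := T) fun M (hM : M ∈ T) => d.all_cyclic
          (Finset.mem_filter.mp hL).2 hne hc (Finset.mem_filter.mp hM).2]
        omega
      · have : T.filter (fun M : Subgroup X => IsCyclic M) = {d.C} := by
          ext M
          simp only [Finset.mem_filter, Finset.mem_singleton]
          refine ⟨fun h => by_contra fun hne => h2 ⟨M, h.1, hne, h.2⟩, ?_⟩
          rintro rfl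
          exact ⟨hCT, d.cyclic⟩
        rw [this, Finset.card_singleton]
  · rw [if_neg (fun h => hmc h.1)]
    have hcyc2 : Even (T.filter (fun M : Subgroup X => IsCyclic M)).card := by
      by_cases hA : ∃ A ∈ T, IsCyclic A
      · obtain ⟨A, hA, hAc⟩ := hA
        haveI := hAc
        have hAi := (Finset.mem_filter.mp hA).2
        have alt : ∀ L₁ ∈ T.erase A, ∀ L₂ ∈ T.erase A, L₁ ≠ L₂ → (IsCyclic L₁ ↔ ¬ IsCyclic L₂) := by
          intro L₁ h₁ L₂ h₂ hne
          obtain ⟨hn₁, hT₁⟩ := Finset.mem_erase.mp h₁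
          obtain ⟨hn₂, hT₂⟩ := Finset.mem_erase.mp h₂
          exact cyclic_alternate hn hnc hmc hAi (Finset.mem_filter.mp hT₁).2 (Finset.mem_filter.mp hT₂).2
            hn₁ hn₂ hne
        have hc2 : 1 < (T.erase A).card := by
          rw [Finset.card_erase_of_mem hA]
          omega
        obtain ⟨L₁, h₁, L₂, h₂, hne⟩ := Finset.one_lt_card.mp hc2
        obtain ⟨L, hL, L', hL', hLc, hL'c, hne'⟩ : ∃ L ∈ T.erase A, ∃ L' ∈ T.erase A,
            IsCyclic L ∧ ¬ IsCyclic L' ∧ L ≠ L' := by
          by_cases h : IsCyclic L₁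
          · exact ⟨L₁, h₁, L₂, h₂, h, (alt L₁ h₁ L₂ h₂ hne).mp h, hne⟩
          · exact ⟨L₂, h₂, L₁, h₁, not_not.mp fun h' => h ((alt L₁ h₁ L₂ h₂ hne).mpr h'), h, hne.symm⟩
        have hfe : T.filter (fun M : Subgroup X => IsCyclic M) = {A, L} := by
          ext M
          simp only [Finset.mem_filter, Finset.mem_insert, Finset.mem_singleton]
          constructor
          · rintro ⟨hM, hMc⟩
            by_contra hno
            push Not at hno
            have hMe := Finset.mem_erase.mpr ⟨hno.1, hM⟩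
            exact (alt L hL M hMe (Ne.symm hno.2)).mp hLc hMc
          · rintro (rfl | rfl)
            · exact ⟨hA, hAc⟩
            · exact ⟨(Finset.mem_erase.mp hL).2, hLc⟩
        rw [hfe, Finset.card_pair (Ne.symm (Finset.mem_erase.mp hL).1)]
        exact even_two
      · rw [Finset.filter_eq_empty_iff.mpr fun M hM hc => hA ⟨M, hM, hc⟩, Finset.card_empty]
        exact ⟨0, rfl⟩
    have hMC2 : k + 2 ≤ n' + 2 → Even (T.filter (fun M : Subgroup X => MC M)).card := by
      intro hk3
      by_cases hM : ∃ M ∈ T, MC M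
      · obtain ⟨M, hM, hMc⟩ := hM
        obtain ⟨m', rfl⟩ : ∃ m', n' = m' + 1 := ⟨n' - 1, by omega⟩
        have h3 := card_not_MC (m := m') hn hnc hmc (Finset.mem_filter.mp hM).2 hMc
        rw [Nat.card_eq_fintype_card, Fintype.card_subtype, ← Finset.filter_filter, ← hT] at h3
        have := Finset.card_filter_add_card_filter_not (s := T) (fun L : Subgroup X => MC L)
        rw [h3] at this
        rw [Nat.even_iff]
        omega
      · rw [Finset.filter_eq_empty_iff.mpr fun M hM' hc => hM ⟨M, hM', hc⟩, Finset.card_empty]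
        exact ⟨0, rfl⟩
    by_cases hk3 : k + 2 ≤ n' + 2
    · have hfe : T.filter Bad = T.filter (fun M : Subgroup X => IsCyclic M) ∪
          T.filter (fun M : Subgroup X => MC M) := by
        rw [← Finset.filter_or]
        exact Finset.filter_congr fun M _ => ⟨fun h => h.imp id And.left, fun h => h.imp id fun h => ⟨h, hk3⟩⟩
      have hd : Disjoint (T.filter (fun M : Subgroup X => IsCyclic M))
          (T.filter (fun M : Subgroup X => MC M)) := by
        rw [Finset.disjoint_filter]
        intro M hM hc hMC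
        haveI := hc
        refine not_MC_of_cyclic ?_ hMC
        rw [hMcard M hM]
        exact (Nat.pow_le_pow_right (by norm_num) (by omega) : 2 ^ 3 ≤ 2 ^ (n' + 2))
      rw [hb, hfe, Finset.card_union_of_disjoint hd, ← Nat.even_iff]
      exact hcyc2.add (hMC2 hk3)
    · have hfe : T.filter Bad = T.filter (fun M : Subgroup X => IsCyclic M) :=
        Finset.filter_congr fun M _ => ⟨fun h => h.elim id fun h => absurd h.2 hk3, Or.inl⟩
      rw [hb, hfe, ← Nat.even_iff]
      exact hcyc2

end CfsgLib.KulakoffTwo
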