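import Cfsg.Agent.Lib.Frobenius.Kulakoff
import Cfsg.Agent.Lib.PGroup.TwoMaximalClass

/-!
# Maximal subgroups of `2`-groups: how many are cyclic or of maximal class
-/

set_option autoImplicit false
set_option linter.style.haveILetI false

namespace CfsgLib.KulakoffTwo

open Subgroup CfsgLib.Kulakoff
open scoped commutatorElement

universe u

/-- The derived subgroup has index four (maximal class, or the four group). -/
def MC (X : Type*) [Group X] : Prop := 4 * Nat.card (commutator X) = Nat.card X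

variable {X : Type u} [Group X] [Finite X]

theorem isCyclic_subgroup_le {C : Subgroup X} [IsCyclic C] {A B : Subgroup X} (hA : A ≤ C) (hB : B ≤ C)
    (h : Nat.card A ∣ Nat.card B) : A ≤ B := by
  intro x hx
  have hsub : A.subgroupOf C ≤ B.subgroupOf C := by
    haveI : Fintype C := Fintype.ofFinite C
    intro y hy
    have hy1 : y ^ Nat.card B = 1 := by
      obtain ⟨k, hk⟩ := h
      have h1 : (⟨y, hy⟩ : A.subgroupOf C) ^ Nat.card A = 1 := by
        rw [← Nat.card_congr (Subgroup.subgroupOfEquivOfLe hA).toEquiv]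
        exact pow_card_eq_one'
      have h2 := congrArg Subtype.val h1
      rw [SubmonoidClass.coe_pow, OneMemClass.coe_one] at h2
      rw [hk, pow_mul, h2, one_pow]
    classical
    have hcard : Nat.card (B.subgroupOf C) = Nat.card B :=
      Nat.card_congr (Subgroup.subgroupOfEquivOfLe hB).toEquiv
    have hS : (B.subgroupOf C : Set C).toFinset = Finset.univ.filter (fun z : C => z ^ Nat.card B = 1) := by
      refine Finset.eq_of_subset_of_card_le (fun z hz => ?_) ?_
      · rw [Set.mem_toFinset] at hz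
        have h2 := congrArg Subtype.val (pow_card_eq_one' (x := (⟨z, hz⟩ : B.subgroupOf C)))
        rw [hcard] at h2
        simpa using h2
      · refine (IsCyclic.card_pow_eq_one_le Nat.card_pos).trans (le_of_eq ?_)
        rw [Set.toFinset_card, ← Nat.card_eq_fintype_card]
        exact hcard.symm
    have : y ∈ (B.subgroupOf C : Set C).toFinset := by
      rw [hS]; simpa using hy1
    simpa using this
  exact hsub (x := ⟨x, hA hx⟩) hx

theorem four_mul_commutator_le (hX : IsPGroup 2 X) (hnc : ¬ IsCyclic X) :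
    4 * Nat.card (commutator X) ≤ Nat.card X := by
  haveI : Fact (Nat.Prime 2) := ⟨Nat.prime_two⟩
  obtain ⟨e, he, he2⟩ := phi_index_two_le hX hnc
  have h1 : 4 ≤ (phi X 2).index := by
    rw [he]; exact (Nat.pow_le_pow_right (by norm_num) he2 : 2 ^ 2 ≤ 2 ^ e)
  have h2 := Nat.le_of_dvd Nat.card_pos
    (Subgroup.card_dvd_of_le (le_sup_right : commutator X ≤ phi X 2))
  calc 4 * Nat.card (commutator X) ≤ (phi X 2).index * Nat.card (phi X 2) := Nat.mul_le_mul h1 h2
    _ = Nat.card X := (phi X 2).index_mul_card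

theorem not_MC_of_cyclic (h8 : 8 ≤ Nat.card X) [IsCyclic X] : ¬ MC X := by
  intro h
  letI : CommGroup X := IsCyclic.commGroup
  have h1 : commutator X = ⊥ := by
    rw [_root_.commutator_def, Subgroup.commutator_eq_bot_iff_le_centralizer]
    exact fun a _ b _ => mul_comm _ _
  rw [MC, h1, Subgroup.card_bot] at h
  omega

theorem card_of_index_two {m : ℕ} (hX : Nat.card X = 2 ^ (m + 1)) {L : Subgroup X} (hL : L.index = 2) :
    Nat.card L = 2 ^ m := by
  have h1 := L.card_mul_index
  rw [hL, hX, pow_succ] at h1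
  omega

omit [Finite X] in
theorem le_of_sq_comm {L : Subgroup X} (hL : L.index = 2) : commutator X ≤ L := by
  haveI := Subgroup.normal_of_index_eq_two hL
  refine Subgroup.Normal.quotient_commutative_iff_commutator_le.mp ?_
  have hc : IsCyclic (X ⧸ L) :=
    isCyclic_of_prime_card (p := 2) (by rw [← Subgroup.index_eq_card, hL])
  letI : CommGroup (X ⧸ L) := IsCyclic.commGroup
  exact ⟨⟨mul_comm⟩⟩

theorem exists_not_mem {A L : Subgroup X} (hA : A.index = 2) (hL : L.index = 2) (h : L ≠ A) :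
    ∃ l ∈ L, l ∉ A := by
  by_contra hno
  push Not at hno
  refine h (Subgroup.eq_of_le_of_card_ge hno ?_)
  have h1 := L.card_mul_index
  have h2 := A.card_mul_index
  rw [hL] at h1
  rw [hA] at h2
  omega

/-- A maximal subgroup is generated by an element outside a cyclic one and the squares of the latter. -/
theorem eq_of_common {A L₁ L₂ : Subgroup X} (hA : A.index = 2) (h₁ : L₁.index = 2) (h₂ : L₂.index = 2)
    (hn₁ : L₁ ≠ A) {l : X} (hl₁ : l ∈ L₁) (hl₂ : l ∈ L₂) (hl : l ∉ A)
    (hinf : L₁ ⊓ A ≤ L₂) : L₁ = L₂ := by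
  refine Subgroup.eq_of_le_of_card_ge (fun x hx => ?_) ?_
  · by_cases hxA : x ∈ A
    · exact hinf ⟨hx, hxA⟩
    · have hmem : l⁻¹ * x ∈ A := by
        rw [Subgroup.mul_mem_iff_of_index_two hA, Subgroup.inv_mem_iff]
        exact iff_of_false hl hxA
      have := mul_mem hl₂ (hinf ⟨L₁.mul_mem (L₁.inv_mem hl₁) hx, hmem⟩)
      rwa [mul_inv_cancel_left] at this
  · have := L₁.card_mul_index
    have := L₂.card_mul_index
    rw [h₁, h₂] at *
    omega

/-- Squares in a cyclic subgroup of index two lie in every maximal subgroup, and generate the trace. -/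
theorem inf_eq_of_cyclic {A : Subgroup X} [IsCyclic A] {m : ℕ} (hX : Nat.card X = 2 ^ (m + 2))
    (hA : A.index = 2) {L : Subgroup X} (hL : L.index = 2) (h : L ≠ A) :
    Nat.card ↥(L ⊓ A) = 2 ^ m := by
  haveI := Subgroup.normal_of_index_eq_two hL
  have h1 : Subgroup.relIndex L A ≤ 2 :=
    Nat.le_of_dvd two_pos (hL ▸ Subgroup.relIndex_dvd_index_of_normal L A)
  have h0 : Subgroup.relIndex L A ≠ 1 := by
    rw [Ne, Subgroup.relIndex_eq_one]
    intro hle
    exact h (Subgroup.eq_of_le_of_card_ge hle (by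
      rw [card_of_index_two hX hL, card_of_index_two hX hA])).symm
  have h2 : Subgroup.relIndex L A ≠ 0 := Subgroup.index_ne_zero_of_finite
  have h3 := ((L ⊓ A).subgroupOf A).card_mul_index
  rw [Nat.card_congr (Subgroup.subgroupOfEquivOfLe (inf_le_right : L ⊓ A ≤ A)).toEquiv,
    card_of_index_two hX hA, ← Subgroup.relIndex, Subgroup.inf_relIndex_right,
    show Subgroup.relIndex L A = 2 by omega, pow_succ] at h3
  omega

/-! ## Not of maximal class -/

/-- With a cyclic maximal subgroup `A`, any two other maximal subgroups differ in being cyclic. -/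
theorem cyclic_alternate {m : ℕ} (hX : Nat.card X = 2 ^ (m + 3)) (hnc : ¬ IsCyclic X) (hmc : ¬ MC X)
    {A : Subgroup X} [IsCyclic A] (hA : A.index = 2) {L₁ L₂ : Subgroup X} (h₁ : L₁.index = 2)
    (h₂ : L₂.index = 2) (hn₁ : L₁ ≠ A) (hn₂ : L₂ ≠ A) (hne : L₁ ≠ L₂) :
    IsCyclic L₁ ↔ ¬ IsCyclic L₂ := by
  haveI : Fact (Nat.Prime 2) := ⟨Nat.prime_two⟩
  have hP : IsPGroup 2 X := IsPGroup.of_card hX
  have hAc := card_of_index_two hX hA
  obtain ⟨a, ha⟩ := IsCyclic.exists_generator (α := A)
  have hao : orderOf (a : X) = 2 ^ (m + 2) := by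
    rw [Subgroup.orderOf_coe, orderOf_eq_card_of_forall_mem_zpowers ha, hAc]
  set B := zpowers ((a : X) ^ 4) with hB
  have hBA : B ≤ A := zpowers_le.mpr (pow_mem a.2 4)
  have hBc : Nat.card B = 2 ^ m := by
    rw [hB, Nat.card_zpowers, orderOf_pow' _ (by norm_num), hao,
      show Nat.gcd (2 ^ (m + 2)) 4 = 4 from Nat.gcd_eq_right ⟨2 ^ m, by ring⟩, pow_add]
    omega
  have hDle : commutator X ≤ B := by
    have h1 := four_mul_commutator_le hP hnc
    obtain ⟨j, hj⟩ := IsPGroup.iff_card.mp (hP.to_subgroup (commutator X))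
    refine isCyclic_subgroup_le (le_of_sq_comm hA) hBA ?_
    rw [hj, hBc]
    refine pow_dvd_pow 2 ?_
    rw [MC, hj, hX] at hmc
    rw [hj, hX] at h1
    have h2 : 2 ^ (j + 2) < 2 ^ (m + 3) := by rw [pow_add]; omega
    have := (Nat.pow_lt_pow_iff_right (by norm_num)).mp h2
    omega
  have hsqA : ∀ l : X, l ^ 2 ∈ A := fun l => Subgroup.sq_mem_of_index_two hA l
  have hsqinf : ∀ L : Subgroup X, L.index = 2 → L ≠ A → (a : X) ^ 2 ∈ L ∧ (a : X) ∉ L := by
    intro L hL hne'
    refine ⟨Subgroup.sq_mem_of_index_two hL _, fun h => hne' ?_⟩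
    symm
    refine Subgroup.eq_of_le_of_card_ge ?_ (by rw [hAc, card_of_index_two hX hL])
    intro x hx
    obtain ⟨k, hk⟩ := Subgroup.mem_zpowers_iff.mp (ha ⟨x, hx⟩)
    have := congrArg Subtype.val hk
    simp only [SubgroupClass.coe_zpow] at this
    rw [← this]
    exact zpow_mem h k
  have hsq2 : ∀ l : X, l ∉ A → ∃ i : ℤ, l ^ 2 = ((a : X) ^ 2) ^ i := by
    intro l hl
    obtain ⟨k, hk⟩ := Subgroup.mem_zpowers_iff.mp (ha ⟨l ^ 2, hsqA l⟩)
    have hk' : (a : X) ^ k = l ^ 2 := by
      simpa only [SubgroupClass.coe_zpow] using congrArg Subtype.val hk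
    rcases Int.even_or_odd k with ⟨i, rfl⟩ | hodd
    · exact ⟨i, by rw [← hk', ← zpow_natCast, ← zpow_mul]; congr 1; omega⟩
    · exfalso
      refine hnc (isCyclic_of_orderOf_eq_card l ?_)
      have h2 : orderOf (l ^ 2) = 2 ^ (m + 2) := by
        rw [← hk', ← hao]
        obtain ⟨i, rfl⟩ := hodd
        apply Nat.dvd_antisymm (orderOf_dvd_iff_pow_eq_one.mpr ?_) ?_
        · rw [← zpow_natCast, ← zpow_mul, mul_comm, zpow_mul, zpow_natCast, pow_orderOf_eq_one, one_zpow]
        · set o := orderOf ((a : X) ^ (2 * i + 1)) with ho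
          have h3 : ((orderOf (a : X) : ℤ)) ∣ (2 * i + 1) * o := by
            rw [orderOf_dvd_iff_zpow_eq_one, zpow_mul, zpow_natCast, pow_orderOf_eq_one]
          rw [hao] at h3 ⊢
          have hco : IsCoprime ((2 ^ (m + 2) : ℕ) : ℤ) (2 * i + 1) := by
            push_cast
            exact IsCoprime.pow_left ⟨-i, 1, by ring⟩
          exact_mod_cast hco.dvd_of_dvd_mul_left h3
      obtain ⟨j, hj, hjo⟩ := (Nat.dvd_prime_pow (p := 2) (m := m + 3) Nat.prime_two).mp
        (hX ▸ orderOf_dvd_natCard l)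
      rw [hX]
      have hne2 : orderOf l ≠ orderOf (l ^ 2) := by
        intro he
        have hcop : (orderOf l).Coprime 2 := by
          by_contra hc
          rw [Nat.coprime_comm, Nat.Prime.coprime_iff_not_dvd Nat.prime_two, not_not] at hc
          rw [orderOf_pow' l (by norm_num), Nat.gcd_eq_right hc] at he
          have := orderOf_pos l
          omega
        rw [h2] at he
        rw [he, Nat.coprime_pow_left_iff (by omega)] at hcop
        norm_num at hcop
      rw [h2] at hne2
      rw [hjo] at hne2 ⊢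
      congr 1
      have hjle : m + 2 ≤ j := by
        have h4 : orderOf (l ^ 2) ∣ orderOf l := orderOf_pow_dvd 2
        rw [h2, hjo] at h4
        exact (Nat.pow_dvd_pow_iff_le_right (by norm_num)).mp h4
      have : j ≠ m + 2 := fun e => hne2 (by rw [e])
      omega
  have crit : ∀ L : Subgroup X, L.index = 2 → L ≠ A → ∀ l ∈ L, l ∉ A →
      (IsCyclic L ↔ l ^ 2 ∉ B) := by
    intro L hL hLA l hlL hlA
    have hLc := card_of_index_two hX hL
    constructor
    · intro hc hlB
      obtain ⟨g, hg⟩ := IsCyclic.exists_generator (α := L)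
      obtain ⟨k, hk⟩ := Subgroup.mem_zpowers_iff.mp (hg ⟨l, hlL⟩)
      have hk' : (g : X) ^ k = l := by
        simpa only [SubgroupClass.coe_zpow] using congrArg Subtype.val hk
      have hgA : (g : X) ∉ A := fun h => hlA (hk' ▸ zpow_mem h k)
      have hkodd : Odd k := by
        by_contra he
        rw [Int.not_odd_iff_even] at he
        obtain ⟨i, rfl⟩ := he
        refine hlA ?_
        rw [← hk', ← two_mul, zpow_mul, zpow_two, ← sq]
        exact zpow_mem (hsqA _) i
      obtain ⟨i, rfl⟩ := hkodd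
      have hgo : orderOf (g : X) = 2 ^ (m + 2) := by
        rw [Subgroup.orderOf_coe, orderOf_eq_card_of_forall_mem_zpowers hg, hLc]
      have hlo : (l ^ 2) ^ (2 ^ m) = 1 := by
        obtain ⟨⟨j, hj⟩⟩ : Nonempty (∃ j : ℤ, ((a : X) ^ 4) ^ j = l ^ 2) :=
          ⟨Subgroup.mem_zpowers_iff.mp hlB⟩
        rw [← hj, ← zpow_natCast, ← zpow_mul, mul_comm, zpow_mul, zpow_natCast, ← pow_mul,
          show 4 * 2 ^ m = 2 ^ (m + 2) by ring, ← hao, pow_orderOf_eq_one, one_zpow]
      have h5 : (g : X) ^ ((2 * i + 1) * ((2 ^ (m + 1) : ℕ) : ℤ)) = 1 := by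
        rw [zpow_mul, hk', zpow_natCast, pow_succ', pow_mul]
        exact hlo
      rw [← orderOf_dvd_iff_zpow_eq_one, hgo] at h5
      have h6 : IsCoprime ((2 ^ (m + 2) : ℕ) : ℤ) (2 * i + 1) := by
        push_cast
        exact IsCoprime.pow_left ⟨-i, 1, by ring⟩
      have h7 := h6.dvd_of_dvd_mul_left h5
      rw [Int.natCast_dvd_natCast, Nat.pow_dvd_pow_iff_le_right (by norm_num)] at h7
      omega
    · intro hlB
      obtain ⟨i, hi⟩ := hsq2 l hlA
      have hio : Odd i := by
        by_contra he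
        rw [Int.not_odd_iff_even] at he
        obtain ⟨j, rfl⟩ := he
        refine hlB (Subgroup.mem_zpowers_iff.mpr ⟨j, ?_⟩)
        rw [hi, ← zpow_natCast, ← zpow_natCast, ← zpow_mul, ← zpow_mul]
        congr 1
        push_cast
        ring
      refine isCyclic_of_orderOf_eq_card (⟨l, hlL⟩ : L) ?_
      rw [Subgroup.orderOf_mk, hLc]
      obtain ⟨j, hj, hjo⟩ := (Nat.dvd_prime_pow (p := 2) (m := m + 2) Nat.prime_two).mp
        (hLc ▸ Subgroup.orderOf_dvd_natCard _ hlL)
      rw [hjo]
      congr 1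
      by_contra hne'
      have h5 : l ^ (2 ^ (m + 1)) = 1 := by
        rw [← orderOf_dvd_iff_pow_eq_one, hjo]
        exact pow_dvd_pow 2 (by omega)
      rw [show 2 ^ (m + 1) = 2 * 2 ^ m by ring, pow_mul, hi, ← zpow_natCast, ← zpow_natCast (a : X),
        ← zpow_mul, ← zpow_mul, ← orderOf_dvd_iff_zpow_eq_one, hao] at h5
      have h6 : IsCoprime ((2 ^ (m + 2) : ℕ) : ℤ) i := by
        obtain ⟨j', rfl⟩ := hio
        push_cast
        exact IsCoprime.pow_left ⟨-j', 1, by ring⟩
      have h7 : ((2 ^ (m + 2) : ℕ) : ℤ) ∣ ((2 ^ (m + 1) : ℕ) : ℤ) := by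
        refine h6.dvd_of_dvd_mul_left ?_
        refine dvd_trans h5 (dvd_of_eq ?_)
        push_cast
        ring
      rw [Int.natCast_dvd_natCast, Nat.pow_dvd_pow_iff_le_right (by norm_num)] at h7
      omega
  obtain ⟨l₁, hl₁, hl₁A⟩ := exists_not_mem hA h₁ hn₁
  obtain ⟨l₂, hl₂, hl₂A⟩ := exists_not_mem hA h₂ hn₂
  rw [crit L₁ h₁ hn₁ l₁ hl₁ hl₁A, crit L₂ h₂ hn₂ l₂ hl₂ hl₂A, not_not]
  have hdA : l₁⁻¹ * l₂ ∈ A := by
    rw [Subgroup.mul_mem_iff_of_index_two hA, Subgroup.inv_mem_iff]; exact iff_of_false hl₁A hl₂A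
  obtain ⟨k, hk⟩ := Subgroup.mem_zpowers_iff.mp (ha ⟨_, hdA⟩)
  have hk' : (a : X) ^ k = l₁⁻¹ * l₂ := by
    simpa only [SubgroupClass.coe_zpow] using congrArg Subtype.val hk
  have hkodd : Odd k := by
    by_contra he
    rw [Int.not_odd_iff_even] at he
    obtain ⟨i, rfl⟩ := he
    refine hne (eq_of_common hA h₁ h₂ hn₁ (l := l₂) ?_ hl₂ hl₂A ?_)
    · have : (a : X) ^ (i + i) ∈ L₁ := by
        rw [← two_mul, zpow_mul, zpow_two, ← sq]; exact zpow_mem (hsqinf L₁ h₁ hn₁).1 i
      rw [hk'] at this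
      have h2' := mul_mem hl₁ this
      rwa [mul_inv_cancel_left] at h2'
    · refine isCyclic_subgroup_le inf_le_right (inf_le_right : L₂ ⊓ A ≤ A) ?_ |>.trans inf_le_left
      rw [inf_eq_of_cyclic (m := m + 1) hX hA h₁ hn₁, inf_eq_of_cyclic (m := m + 1) hX hA h₂ hn₂]
  obtain ⟨i, rfl⟩ := hkodd
  haveI : B.Normal := by
    refine ⟨fun x hx g => ?_⟩
    have h : g * x * g⁻¹ * x⁻¹ ∈ B :=
      hDle (Subgroup.commutator_mem_commutator (Subgroup.mem_top g) (Subgroup.mem_top x))
    simpa using mul_mem h hx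
  have hcomm : ∀ x y : X ⧸ B, x * y = y * x :=
    ((Subgroup.Normal.quotient_commutative_iff_commutator_le).mpr hDle).is_comm.comm
  have hl2e : l₂ = l₁ * (a : X) ^ (2 * i + 1) := by rw [hk', mul_inv_cancel_left]
  have ha4 : (((a : X) ^ 4 : X) : X ⧸ B) = 1 := (QuotientGroup.eq_one_iff _).mpr (mem_zpowers _)
  have ha2 : (((a : X) ^ 2 : X) : X ⧸ B) ≠ 1 := by
    rw [Ne, QuotientGroup.eq_one_iff]
    intro h
    have h' := Subgroup.orderOf_dvd_natCard _ h
    rw [hBc, orderOf_pow' _ (by norm_num), hao, Nat.gcd_eq_right ⟨2 ^ (m + 1), by ring⟩,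
      pow_succ, Nat.mul_div_cancel _ two_pos, Nat.pow_dvd_pow_iff_le_right (by norm_num)] at h'
    omega
  have e : ((l₂ ^ 2 : X) : X ⧸ B) = ((l₁ ^ 2 : X) : X ⧸ B) * (((a : X) ^ 2 : X) : X ⧸ B) := by
    set q := ((l₁ : X) : X ⧸ B)
    set r := (((a : X)) : X ⧸ B)
    have hr : r ^ (4 : ℕ) = 1 := ha4
    rw [hl2e, QuotientGroup.mk_pow, QuotientGroup.mk_mul, QuotientGroup.mk_zpow, QuotientGroup.mk_pow,
      QuotientGroup.mk_pow, (show Commute q (r ^ (2 * i + 1)) from hcomm _ _).mul_pow]
    congr 1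
    rw [← zpow_natCast, ← zpow_mul, show (2 * i + 1) * ((2 : ℕ) : ℤ) = ((4 : ℕ) : ℤ) * i + 2 by push_cast; ring,
      zpow_add, zpow_mul, zpow_natCast, hr, one_zpow, one_mul, zpow_ofNat]
  rw [← QuotientGroup.eq_one_iff, ← QuotientGroup.eq_one_iff, e]
  obtain ⟨j, hj⟩ := hsq2 l₁ hl₁A
  have hrj : ((l₁ ^ 2 : X) : X ⧸ B) = (((a : X) ^ 2 : X) : X ⧸ B) ^ j := by
    rw [hj, QuotientGroup.mk_zpow]
  have h22 : (((a : X) ^ 2 : X) : X ⧸ B) * (((a : X) ^ 2 : X) : X ⧸ B) = 1 := by
    rw [← QuotientGroup.mk_mul, ← pow_add]; exact ha4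
  constructor
  · intro hne'
    rw [hrj] at hne' ⊢
    rcases Int.even_or_odd j with ⟨t, rfl⟩ | ⟨t, rfl⟩
    · exact absurd (by rw [← two_mul, zpow_mul, zpow_two, h22, one_zpow]) hne'
    · rw [zpow_add, zpow_one, zpow_mul, zpow_two, h22, one_zpow, one_mul, h22]
  · intro he h1
    rw [h1, one_mul] at he
    exact ha2 he

/-! ## Maximal class -/

theorem pow_sq_mem_commutator {C : Subgroup X} [IsCyclic C] (hC : C.index = 2)
    (hne : commutator X ≠ ⊥) {t : X} (ht : t ∉ C) {L : Subgroup X} (htL : t ∈ L)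
    (hDL : commutator X ≤ L) (hDsq : ∀ c ∈ C, c ^ 2 ∈ commutator X) :
    ∀ x ∈ commutator X, x ^ 2 ∈ ⁅L, L⁆ := by
  intro x hx
  haveI : IsMulCommutative C := ⟨⟨fun a b => (IsCyclic.commGroup (α := C)).mul_comm a b⟩⟩
  obtain ⟨c, hc, rfl⟩ := (CfsgLib.MaxClass.index_two_facts C hC ht hne).2 x hx
  haveI := Subgroup.normal_of_index_eq_two hC
  have htc : t * c * t⁻¹ ∈ C := Subgroup.Normal.conj_mem inferInstance c hc t
  have hcom : Commute c⁻¹ (t * c * t⁻¹) :=
    congrArg Subtype.val (mul_comm' (⟨c⁻¹, inv_mem hc⟩ : C) ⟨_, htc⟩)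
  rw [hcom.mul_pow, inv_pow, conj_pow]
  have : (c ^ 2)⁻¹ * (t * c ^ 2 * t⁻¹) = ⁅(c ^ 2)⁻¹, t⁆ := by
    rw [commutatorElement_def, inv_inv]; group
  rw [this]
  exact Subgroup.commutator_mem_commutator (inv_mem (hDL (hDsq c hc))) htL

theorem card_commutator_subgroup (L : Subgroup X) :
    Nat.card (commutator L) = Nat.card ↥⁅L, L⁆ := by
  rw [← Subgroup.card_map_of_injective L.subtype_injective, _root_.commutator_def, Subgroup.map_commutator,
    ← MonoidHom.range_eq_map, Subgroup.range_subtype]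

/-- The facts about a group of maximal class. -/
structure MaxData (X : Type u) [Group X] [Finite X] (m : ℕ) where
  card_eq : Nat.card X = 2 ^ (m + 3)
  C : Subgroup X
  cyclic : IsCyclic C
  index_C : C.index = 2
  card_D : Nat.card (commutator X) = 2 ^ (m + 1)
  D_le : commutator X ≤ C
  sq_mem : ∀ c ∈ C, c ^ 2 ∈ commutator X

theorem nonempty_maxData {m : ℕ} (hX : Nat.card X = 2 ^ (m + 3)) (hmc : MC X) :
    Nonempty (MaxData X m) := by
  haveI : Fact (Nat.Prime 2) := ⟨Nat.prime_two⟩
  have hD : Nat.card (commutator X) = 2 ^ (m + 1) := by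
    rw [MC, hX, pow_succ, pow_succ] at hmc
    omega
  obtain ⟨-, C, hC, hCi⟩ := CfsgLib.MaxClass.taussky (m + 3) X (by omega) hX (by
    rw [hD]; congr 1)
  have hDC := le_of_sq_comm hCi
  refine ⟨⟨hX, C, hC, hCi, hD, hDC, fun c hc => ?_⟩⟩
  haveI := hC
  refine isCyclic_subgroup_le (A := zpowers (c ^ 2)) (zpowers_le.mpr (pow_mem hc 2)) hDC ?_
    (mem_zpowers _)
  have hCc := card_of_index_two hX hCi
  obtain ⟨j, hj, hjo⟩ := (Nat.dvd_prime_pow (p := 2) (m := m + 2) Nat.prime_two).mp
    (hCc ▸ Subgroup.orderOf_dvd_natCard _ hc)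
  rw [Nat.card_zpowers, hD]
  rcases j with _ | j
  · rw [pow_zero, orderOf_eq_one_iff] at hjo
    simp [hjo]
  · rw [orderOf_pow' _ (by norm_num), hjo, Nat.gcd_eq_right (dvd_pow_self 2 (by omega)),
      pow_succ, Nat.mul_div_cancel _ two_pos]
    exact pow_dvd_pow 2 (by omega)

theorem MaxData.sq_le {m : ℕ} (d : MaxData X m) {L : Subgroup X} (hL : L.index = 2) (hne : L ≠ d.C) :
    ∀ x ∈ commutator X, x ^ 2 ∈ ⁅L, L⁆ := by
  haveI := d.cyclic
  obtain ⟨t, htL, ht⟩ := exists_not_mem d.index_C hL hne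
  refine pow_sq_mem_commutator d.index_C ?_ ht htL (le_of_sq_comm hL) d.sq_mem
  intro hb
  have := d.card_D
  rw [hb, Subgroup.card_bot] at this
  exact (Nat.one_lt_pow (by omega) one_lt_two).ne this

theorem MaxData.cyclic_or_MC {m : ℕ} (d : MaxData X m) {L : Subgroup X} (hL : L.index = 2) :
    IsCyclic L ∨ MC L := by
  haveI : Fact (Nat.Prime 2) := ⟨Nat.prime_two⟩
  by_cases hc : IsCyclic L
  · exact Or.inl hc
  right
  have hne : L ≠ d.C := fun e => hc (e ▸ d.cyclic)
  have hP : IsPGroup 2 L := (IsPGroup.of_card d.card_eq).to_subgroup L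
  have hup := four_mul_commutator_le hP hc
  have hsq := d.sq_le hL hne
  haveI := d.cyclic
  haveI : IsCyclic (commutator X) := isCyclic_of_injective (Subgroup.inclusion d.D_le)
    (Subgroup.inclusion_injective _)
  obtain ⟨g, hg⟩ := IsCyclic.exists_generator (α := commutator X)
  have hgo : orderOf (g : X) = 2 ^ (m + 1) := by
    rw [Subgroup.orderOf_coe, orderOf_eq_card_of_forall_mem_zpowers hg, d.card_D]
  have hlow : 2 ^ m ≤ Nat.card ↥⁅L, L⁆ := by
    have h := Subgroup.card_le_of_le (zpowers_le.mpr (hsq g g.2))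
    rw [Nat.card_zpowers, orderOf_pow' _ (by norm_num), hgo,
      Nat.gcd_eq_right (dvd_pow_self 2 (by omega)), pow_succ, Nat.mul_div_cancel _ two_pos] at h
    exact h
  rw [MC, card_commutator_subgroup, card_of_index_two d.card_eq hL]
  rw [card_commutator_subgroup, card_of_index_two d.card_eq hL] at hup
  rw [show 2 ^ (m + 2) = 4 * 2 ^ m by ring] at hup ⊢
  omega

theorem MaxData.eq_or {m : ℕ} (d : MaxData X m) {L₁ L₂ L₃ : Subgroup X} (h₁ : L₁.index = 2)
    (h₂ : L₂.index = 2) (h₃ : L₃.index = 2) (hn₁ : L₁ ≠ d.C) (hn₂ : L₂ ≠ d.C) (hn₃ : L₃ ≠ d.C) :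
    L₁ = L₂ ∨ L₁ = L₃ ∨ L₂ = L₃ := by
  haveI := d.cyclic
  obtain ⟨a, ha, haD⟩ : ∃ a ∈ d.C, a ∉ commutator X := by
    by_contra h
    push Not at h
    have := Subgroup.card_le_of_le (show d.C ≤ commutator X from h)
    rw [card_of_index_two d.card_eq d.index_C, d.card_D, pow_succ] at this
    have := Nat.two_pow_pos (m + 1)
    omega
  have hinf : ∀ {L L' : Subgroup X}, L.index = 2 → L'.index = 2 → L ≠ d.C → L ⊓ d.C ≤ L' := by
    intro L L' hL hL' hne
    refine le_trans ?_ (le_of_sq_comm hL')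
    refine isCyclic_subgroup_le inf_le_right d.D_le ?_
    rw [inf_eq_of_cyclic (m := m + 1) d.card_eq d.index_C hL hne, d.card_D]
  obtain ⟨l₁, hl₁, hl₁C⟩ := exists_not_mem d.index_C h₁ hn₁
  have key : ∀ L : Subgroup X, L.index = 2 → L ≠ d.C → L ≠ L₁ → l₁ * a ∈ L := by
    intro L hL hne hne1
    by_cases h : l₁ ∈ L
    · exact absurd (eq_of_common d.index_C hL h₁ hne h hl₁ hl₁C (hinf hL h₁ hne)) hne1
    · rw [Subgroup.mul_mem_iff_of_index_two hL]
      refine iff_of_false h fun haL => hne ?_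
      symm
      refine Subgroup.eq_of_le_of_card_ge ?_
        (by rw [card_of_index_two d.card_eq hL, card_of_index_two d.card_eq d.index_C])
      intro x hx
      by_cases hxD : x ∈ commutator X
      · exact le_of_sq_comm hL hxD
      · have hDi : ((commutator X).subgroupOf d.C).index = 2 := by
          have h3 := ((commutator X).subgroupOf d.C).card_mul_index
          rw [Nat.card_congr (Subgroup.subgroupOfEquivOfLe d.D_le).toEquiv, d.card_D,
            card_of_index_two d.card_eq d.index_C, show 2 ^ (m + 2) = 2 ^ (m + 1) * 2 by ring] at h3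
          exact Nat.eq_of_mul_eq_mul_left (Nat.two_pow_pos _) h3
        have hmem : a⁻¹ * x ∈ commutator X := by
          have := (Subgroup.mul_mem_iff_of_index_two hDi (a := ⟨a, ha⟩⁻¹) (b := ⟨x, hx⟩)).mpr
            (iff_of_false (by rw [Subgroup.inv_mem_iff, Subgroup.mem_subgroupOf]; exact haD)
              (by rw [Subgroup.mem_subgroupOf]; exact hxD))
          rwa [Subgroup.mem_subgroupOf] at this
        have := mul_mem haL (le_of_sq_comm hL hmem)
        rwa [mul_inv_cancel_left] at this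
  by_cases e12 : L₁ = L₂
  · exact Or.inl e12
  by_cases e13 : L₁ = L₃
  · exact Or.inr (Or.inl e13)
  refine Or.inr (Or.inr (eq_of_common d.index_C h₂ h₃ hn₂ (l := l₁ * a)
    (key L₂ h₂ hn₂ (Ne.symm e12)) (key L₃ h₃ hn₃ (Ne.symm e13)) ?_ (hinf h₂ h₃ hn₂)))
  rw [Subgroup.mul_mem_iff_of_index_two d.index_C]
  exact fun h => hl₁C (h.mpr ha)

/-- Two cyclic maximal subgroups force the quaternion shape, in which all are cyclic. -/
theorem MaxData.all_cyclic {m : ℕ} (d : MaxData X m) {L : Subgroup X} (hL : L.index = 2)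
    (hne : L ≠ d.C) (hc : IsCyclic L) {L' : Subgroup X} (hL' : L'.index = 2) : IsCyclic L' := by
  haveI : Fact (Nat.Prime 2) := ⟨Nat.prime_two⟩
  haveI := d.cyclic
  by_cases h1 : L' = d.C
  · exact h1 ▸ d.cyclic
  by_cases h2 : L' = L
  · exact h2 ▸ hc
  have hLbot : ⁅L, L⁆ = ⊥ := by
    rw [Subgroup.commutator_eq_bot_iff_le_centralizer]
    intro x hx y hy
    exact congrArg Subtype.val ((IsCyclic.commGroup (α := L)).mul_comm ⟨y, hy⟩ ⟨x, hx⟩)
  have hsq := d.sq_le hL hne
  haveI : IsCyclic (commutator X) := isCyclic_of_injective (Subgroup.inclusion d.D_le)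
    (Subgroup.inclusion_injective _)
  obtain ⟨g, hg⟩ := IsCyclic.exists_generator (α := commutator X)
  have hgo : orderOf (g : X) = 2 ^ (m + 1) := by
    rw [Subgroup.orderOf_coe, orderOf_eq_card_of_forall_mem_zpowers hg, d.card_D]
  have hg2 : (g : X) ^ 2 = 1 := by rw [← Subgroup.mem_bot, ← hLbot]; exact hsq g g.2
  have hm0 : m = 0 := by
    have := orderOf_dvd_of_pow_eq_one hg2
    rw [hgo] at this
    have h3 := (Nat.pow_dvd_pow_iff_le_right one_lt_two).mp (this.trans (pow_one 2).symm.dvd)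
    omega
  subst hm0
  have hCc := card_of_index_two d.card_eq d.index_C
  have hLc := card_of_index_two d.card_eq hL
  obtain ⟨⟨c, hcC⟩, hcg⟩ := IsCyclic.exists_generator (α := d.C)
  obtain ⟨⟨l, hlL⟩, hlg⟩ := IsCyclic.exists_generator (α := L)
  have hco : orderOf c = 4 := by
    have := orderOf_eq_card_of_forall_mem_zpowers hcg
    rw [hCc, Subgroup.orderOf_mk] at this
    exact this.trans (by norm_num)
  have hlo : orderOf l = 4 := by
    have := orderOf_eq_card_of_forall_mem_zpowers hlg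
    rw [hLc, Subgroup.orderOf_mk] at this
    exact this.trans (by norm_num)
  have hlC : l ∉ d.C := by
    intro h
    obtain ⟨x, hxL, hxC⟩ := exists_not_mem d.index_C hL hne
    obtain ⟨k, hk⟩ := Subgroup.mem_zpowers_iff.mp (hlg ⟨x, hxL⟩)
    have hk' : l ^ k = x := congrArg Subtype.val hk
    refine hxC ?_
    rw [← hk']
    exact zpow_mem h k
  haveI := Subgroup.normal_of_index_eq_two d.index_C
  have hconjC : l * c * l⁻¹ ∈ d.C := Subgroup.Normal.conj_mem inferInstance c hcC l
  have hconj : l * c * l⁻¹ = c⁻¹ := by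
    obtain ⟨k, hk⟩ := Subgroup.mem_zpowers_iff.mp (hcg ⟨_, hconjC⟩)
    have hk' : c ^ k = l * c * l⁻¹ := by simpa using congrArg Subtype.val hk
    have hodd : ¬ (2 : ℤ) ∣ k := by
      rintro ⟨j, rfl⟩
      have h5 : (l * c * l⁻¹) ^ 2 = 1 := by
        rw [← hk', ← zpow_natCast, ← zpow_mul, show (2 : ℤ) * j * ((2 : ℕ) : ℤ) = ((4 : ℕ) : ℤ) * j by push_cast; ring,
          zpow_mul, zpow_natCast, ← hco, pow_orderOf_eq_one, one_zpow]
      rw [conj_pow, conj_eq_one_iff] at h5
      have := orderOf_dvd_of_pow_eq_one h5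
      rw [hco] at this
      norm_num at this
    have hne1 : l * c * l⁻¹ ≠ c := by
      intro h
      have hab : ∀ x y : X, x * y = y * x := by
        have htop : ∀ x : X, x ∈ Subgroup.closure ({c, l} : Set X) := by
          intro x
          have hz : ∀ y ∈ d.C, y ∈ Subgroup.closure ({c, l} : Set X) := fun y hy => by
            obtain ⟨j, hj⟩ := Subgroup.mem_zpowers_iff.mp (hcg ⟨y, hy⟩)
            have hj' : c ^ j = y := by simpa using congrArg Subtype.val hj
            exact hj' ▸ zpow_mem (Subgroup.subset_closure (Set.mem_insert _ _)) j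
          by_cases hx : x ∈ d.C
          · exact hz x hx
          · have hm : l⁻¹ * x ∈ d.C := by
              rw [Subgroup.mul_mem_iff_of_index_two d.index_C, Subgroup.inv_mem_iff]
              exact iff_of_false hlC hx
            have := mul_mem (Subgroup.subset_closure (Set.mem_insert_of_mem c (Set.mem_singleton l))) (hz _ hm)
            rwa [mul_inv_cancel_left] at this
        have hlc : l * c = c * l := mul_inv_eq_iff_eq_mul.mp h
        have hcomm : ∀ u ∈ ({c, l} : Set X), ∀ v ∈ ({c, l} : Set X), u * v = v * u := by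
          intro u hu v hv
          rcases hu with rfl | hu <;> rcases hv with rfl | hv <;>
            simp only [Set.mem_singleton_iff] at * <;> subst_vars <;> first | rfl | exact hlc | exact hlc.symm
        haveI := Subgroup.isMulCommutative_closure hcomm
        intro x y
        exact congrArg Subtype.val (mul_comm' (⟨x, htop x⟩ : Subgroup.closure ({c, l} : Set X)) ⟨y, htop y⟩)
      have hbot : commutator X = ⊥ := by
        rw [_root_.commutator_def, Subgroup.commutator_eq_bot_iff_le_centralizer]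
        exact fun a _ b _ => hab b a
      have := d.card_D
      rw [hbot, Subgroup.card_bot] at this
      norm_num at this
    rw [← hk']
    obtain ⟨j, hj⟩ : ∃ j : ℤ, k = 4 * j + 1 ∨ k = 4 * j + 3 := ⟨k / 4, by omega⟩
    rcases hj with rfl | rfl
    · exfalso
      apply hne1
      rw [← hk', zpow_add, zpow_one, show (4 : ℤ) * j = ((4 : ℕ) : ℤ) * j by norm_num, zpow_mul, zpow_natCast,
        ← hco, pow_orderOf_eq_one, one_zpow, one_mul]
    · rw [show (4 : ℤ) * j + 3 = ((4 : ℕ) : ℤ) * (j + 1) + (-1) by push_cast; ring, zpow_add, zpow_mul,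
        zpow_natCast, ← hco, pow_orderOf_eq_one, one_zpow, one_mul, zpow_neg_one]
  have hclC : c * l ∉ d.C := by
    rw [Subgroup.mul_mem_iff_of_index_two d.index_C]
    exact fun h => hlC (h.mp hcC)
  have hclL : c * l ∉ L := by
    rw [Subgroup.mul_mem_iff_of_index_two hL]
    intro h
    have hcL : c ∈ L := h.mpr hlL
    refine hne (Subgroup.eq_of_le_of_card_ge ?_ (by rw [hCc, hLc])).symm
    intro x hx
    obtain ⟨j, hj⟩ := Subgroup.mem_zpowers_iff.mp (hcg ⟨x, hx⟩)
    have hj' : c ^ j = x := by simpa using congrArg Subtype.val hj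
    exact hj' ▸ zpow_mem hcL j
  have hclL' : c * l ∈ L' := by
    have hcL' : c ∉ L' := fun h => h1 (Subgroup.eq_of_le_of_card_ge (fun x hx => by
      obtain ⟨j, hj⟩ := Subgroup.mem_zpowers_iff.mp (hcg ⟨x, hx⟩)
      have hj' : c ^ j = x := by simpa using congrArg Subtype.val hj
      exact hj' ▸ zpow_mem h j) (by rw [hCc, card_of_index_two d.card_eq hL'])).symm
    have hlL' : l ∉ L' := fun h => h2 (Subgroup.eq_of_le_of_card_ge (fun x hx => by
      obtain ⟨j, hj⟩ := Subgroup.mem_zpowers_iff.mp (hlg ⟨x, hx⟩)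
      have hj' : l ^ j = x := by simpa using congrArg Subtype.val hj
      exact hj' ▸ zpow_mem h j) (by rw [hLc, card_of_index_two d.card_eq hL'])).symm
    rw [Subgroup.mul_mem_iff_of_index_two hL']
    exact iff_of_false hcL' hlL'
  refine isCyclic_of_orderOf_eq_card (⟨c * l, hclL'⟩ : L') ?_
  rw [Subgroup.orderOf_mk, card_of_index_two d.card_eq hL']
  have hsq2 : (c * l) ^ 2 = l ^ 2 := by
    have h' : l * c = c⁻¹ * l := mul_inv_eq_iff_eq_mul.mp hconj
    rw [sq, sq, ← mul_assoc, mul_assoc c l c, h', ← mul_assoc, mul_inv_cancel, one_mul]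
  have hne2 : (c * l) ^ 2 ≠ 1 := by
    rw [hsq2]
    intro h
    have := orderOf_dvd_of_pow_eq_one h
    rw [hlo] at this
    norm_num at this
  have h4 : (c * l) ^ 4 = 1 := by
    rw [show (4 : ℕ) = 2 * 2 by norm_num, pow_mul, hsq2, ← pow_mul,
      show (2 * 2 : ℕ) = orderOf l from hlo.symm]
    exact pow_orderOf_eq_one l
  exact orderOf_eq_prime_pow (p := 2) (n := 1) (by simpa using hne2) (by simpa using h4)

/-! ## Maximal subgroups of maximal class -/

/-- A group of order sixteen with derived group of order two has three abelian maximal subgroups. -/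
theorem card_abelian_maximal {Q : Type u} [Group Q] [Finite Q] (hQ : Nat.card Q = 16)
    (hD : Nat.card (commutator Q) = 2) :
    Nat.card {L : Subgroup Q // L.index = 2 ∧ ⁅L, L⁆ = ⊥} = 3 := by
  haveI : Fact (Nat.Prime 2) := ⟨Nat.prime_two⟩
  classical
  obtain ⟨d, hd1, hdu⟩ : ∃ d : Q, d ≠ 1 ∧ ∀ u ∈ commutator Q, u = 1 ∨ u = d := by
    obtain ⟨⟨d, hd⟩, hd1, hu⟩ := (Nat.card_eq_two_iff' (1 : commutator Q)).mp hD
    refine ⟨d, fun e => hd1 (Subtype.ext e), fun u hu' => ?_⟩
    by_cases h : (⟨u, hu'⟩ : commutator Q) = 1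
    · exact Or.inl (congrArg Subtype.val h)
    · exact Or.inr (congrArg Subtype.val (hu _ h))
  have hmemD : ∀ a b : Q, ⁅a, b⁆ ∈ commutator Q := fun a b =>
    Subgroup.commutator_mem_commutator (Subgroup.mem_top a) (Subgroup.mem_top b)
  have hidx : ∀ a : Q, (centralizer ({a} : Set Q)).index ≤ 2 := by
    intro a
    have hf : Function.Injective (fun q : Q ⧸ centralizer ({a} : Set Q) =>
        (⟨⁅q.out, a⁆, hmemD _ _⟩ : commutator Q)) := by
      intro q r h
      have h' : ⁅q.out, a⁆ = ⁅r.out, a⁆ := congrArg Subtype.val h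
      rw [← QuotientGroup.out_eq' q, ← QuotientGroup.out_eq' r, QuotientGroup.eq,
        Subgroup.mem_centralizer_singleton_iff]
      rw [commutatorElement_def, commutatorElement_def] at h'
      have h2 : q.out * a * q.out⁻¹ = r.out * a * r.out⁻¹ := mul_right_cancel h'
      calc q.out⁻¹ * r.out * a = q.out⁻¹ * (r.out * a * r.out⁻¹) * r.out := by group
        _ = q.out⁻¹ * (q.out * a * q.out⁻¹) * r.out := by rw [h2]
        _ = a * (q.out⁻¹ * r.out) := by group
    have := Nat.card_le_card_of_injective _ hf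
    rwa [← Subgroup.index_eq_card, hD] at this
  have hcard8 : ∀ a : Q, 8 ≤ Nat.card (centralizer ({a} : Set Q)) := by
    intro a
    have h1 := (centralizer ({a} : Set Q)).card_mul_index
    rw [hQ] at h1
    have h2 := hidx a
    nlinarith
  obtain ⟨x, y, hxy⟩ : ∃ x y : Q, x * y ≠ y * x := by
    by_contra! hall
    have hb : commutator Q = ⊥ := by
      rw [_root_.commutator_def, Subgroup.commutator_eq_bot_iff_le_centralizer]
      exact fun a _ b _ => hall b a
    rw [hb, Subgroup.card_bot] at hD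
    norm_num at hD
  have hlt8 : ∀ a : Q, a ∉ Subgroup.center Q → Nat.card (centralizer ({a} : Set Q)) = 8 := by
    intro a ha
    have hdvd := Subgroup.card_subgroup_dvd_card (centralizer ({a} : Set Q))
    rw [hQ] at hdvd
    obtain ⟨j, hj, hj'⟩ := (Nat.dvd_prime_pow (p := 2) (m := 4) Nat.prime_two).mp hdvd
    have h8 := hcard8 a
    rw [hj'] at h8 ⊢
    interval_cases j <;> first | omega | skip
    exfalso
    refine ha (Subgroup.mem_center_iff.mpr fun g => ?_)
    have htop := Subgroup.eq_top_of_card_eq (centralizer ({a} : Set Q)) (by rw [hj', hQ]; norm_num)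
    exact Subgroup.mem_centralizer_singleton_iff.mp (htop ▸ Subgroup.mem_top g)
  have hxnc : x ∉ Subgroup.center Q := fun h => hxy ((Subgroup.mem_center_iff.mp h y).symm)
  have hync : y ∉ Subgroup.center Q := fun h => hxy (Subgroup.mem_center_iff.mp h x)
  set Cx := centralizer ({x} : Set Q) with hCx
  set Cy := centralizer ({y} : Set Q) with hCy
  have hxCy : x ∉ Cy := fun h => hxy (Subgroup.mem_centralizer_singleton_iff.mp h)
  have hyCx : y ∉ Cx := fun h => hxy (Subgroup.mem_centralizer_singleton_iff.mp h).symm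
  have hCxi : Cx.index = 2 := by
    have h1 := Cx.card_mul_index
    rw [hlt8 x hxnc, hQ] at h1
    omega
  have hCyi : Cy.index = 2 := by
    have h1 := Cy.card_mul_index
    rw [hlt8 y hync, hQ] at h1
    omega
  haveI := Subgroup.normal_of_index_eq_two hCyi
  set K := Cx ⊓ Cy with hK
  have hK4 : Nat.card K = 4 := by
    have h1 : Cy.relIndex Cx ≤ 2 :=
      Nat.le_of_dvd two_pos (hCyi ▸ Subgroup.relIndex_dvd_index_of_normal Cy Cx)
    have h2 : Cy.relIndex Cx ≠ 1 := by
      rw [Ne, Subgroup.relIndex_eq_one]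
      exact fun hle => hxCy (hle (Subgroup.mem_centralizer_singleton_iff.mpr rfl))
    have h3 : Cy.relIndex Cx ≠ 0 := Subgroup.index_ne_zero_of_finite
    have h4 := (Cy.subgroupOf Cx).card_mul_index
    rw [← Subgroup.relIndex, hlt8 x hxnc, show Cy.relIndex Cx = 2 by omega,
      ← Subgroup.inf_subgroupOf_left,
      Nat.card_congr (Subgroup.subgroupOfEquivOfLe (inf_le_left : Cx ⊓ Cy ≤ Cx)).toEquiv] at h4
    change Nat.card ↥K * 2 = 8 at h4
    omega
  have hKZ : K ≤ Subgroup.center Q := by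
    intro k hk
    have hKab : IsMulCommutative K :=
      IsPGroup.isMulCommutative_of_card_eq_prime_sq (p := 2) (by rw [hK4]; norm_num)
    have hle : Cx ≤ centralizer ({k} : Set Q) := by
      intro u hu
      rw [Subgroup.mem_centralizer_singleton_iff]
      by_cases huy : u ∈ Cy
      · exact congrArg Subtype.val (hKab.is_comm.comm (⟨u, hu, huy⟩ : K) ⟨k, hk⟩)
      · have hm : x⁻¹ * u ∈ K := ⟨Cx.mul_mem (Cx.inv_mem (Subgroup.mem_centralizer_singleton_iff.mpr rfl)) hu,
          (Subgroup.mul_mem_iff_of_index_two hCyi).mpr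
            (iff_of_false (fun h => hxCy (Cy.inv_mem_iff.mp h)) huy)⟩
        have h1 : Commute (x⁻¹ * u) k :=
          congrArg Subtype.val (hKab.is_comm.comm (⟨_, hm⟩ : K) ⟨k, hk⟩)
        have h2 : Commute x k := (Subgroup.mem_centralizer_singleton_iff.mp hk.1).symm
        have := h2.mul_left h1
        rwa [mul_inv_cancel_left] at this
    have htop : centralizer ({k} : Set Q) = ⊤ := by
      have hy : y ∈ centralizer ({k} : Set Q) :=
        Subgroup.mem_centralizer_singleton_iff.mpr (Subgroup.mem_centralizer_singleton_iff.mp hk.2).symm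
      have hlt : Nat.card Cx < Nat.card (centralizer ({k} : Set Q)) :=
        Nat.lt_of_le_of_ne (Subgroup.card_le_of_le hle) fun e =>
          hyCx ((Subgroup.eq_of_le_of_card_ge hle e.ge).ge hy)
      rw [hlt8 x hxnc] at hlt
      by_contra hne
      have hkn : k ∉ Subgroup.center Q := fun h => hne (eq_top_iff.mpr fun g _ =>
        Subgroup.mem_centralizer_singleton_iff.mpr (Subgroup.mem_center_iff.mp h g))
      have := hlt8 k hkn
      omega
    refine Subgroup.mem_center_iff.mpr fun g => ?_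
    exact Subgroup.mem_centralizer_singleton_iff.mp (htop ▸ Subgroup.mem_top g)
  set Z := Subgroup.center Q with hZdef
  have hZK : Z = K := le_antisymm (fun z hz => ⟨Subgroup.mem_centralizer_singleton_iff.mpr
    ((Subgroup.mem_center_iff.mp hz x).symm), Subgroup.mem_centralizer_singleton_iff.mpr
    ((Subgroup.mem_center_iff.mp hz y).symm)⟩) hKZ
  have hZ4 : Nat.card Z = 4 := by rw [hZK, hK4]
  have hstruct : ∀ w : Q, w ∉ Z → ∀ u ∈ centralizer ({w} : Set Q), u ∉ Z → w⁻¹ * u ∈ Z := by
    intro w hw u hu huZ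
    set Cw := centralizer ({w} : Set Q)
    have hle : Z ≤ Cw := fun z hz =>
      Subgroup.mem_centralizer_singleton_iff.mpr ((Subgroup.mem_center_iff.mp hz w).symm)
    have hi : (Z.subgroupOf Cw).index = 2 := by
      have h := (Z.subgroupOf Cw).card_mul_index
      rw [Nat.card_congr (Subgroup.subgroupOfEquivOfLe hle).toEquiv, hZ4, hlt8 w hw] at h
      omega
    have hwC : w ∈ Cw := Subgroup.mem_centralizer_singleton_iff.mpr rfl
    have := (Subgroup.mul_mem_iff_of_index_two hi (a := ⟨w, hwC⟩⁻¹) (b := ⟨u, hu⟩)).mpr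
      (iff_of_false (by rw [Subgroup.inv_mem_iff, Subgroup.mem_subgroupOf]; exact hw)
        (by rw [Subgroup.mem_subgroupOf]; exact huZ))
    rwa [Subgroup.mem_subgroupOf] at this
  have hcomm : ∀ w : Q, w ∉ Z → ⁅centralizer ({w} : Set Q), centralizer ({w} : Set Q)⁆ = ⊥ := by
    intro w hw
    rw [Subgroup.commutator_eq_bot_iff_le_centralizer]
    intro u hu v hv
    by_cases huZ : u ∈ Z
    · exact Subgroup.mem_center_iff.mp huZ v
    by_cases hvZ : v ∈ Z
    · exact (Subgroup.mem_center_iff.mp hvZ u).symm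
    have h1 := hstruct w hw u hu huZ
    have h2 := hstruct w hw v hv hvZ
    have e1 : Commute (w⁻¹ * u) (w * (w⁻¹ * v)) := (Subgroup.mem_center_iff.mp h1 _).symm
    have e2 : Commute w (w⁻¹ * v) := Subgroup.mem_center_iff.mp h2 w
    have := ((Commute.refl w).mul_right e2).mul_left e1
    rw [mul_inv_cancel_left, mul_inv_cancel_left] at this
    exact this.symm.eq
  have hout : ∀ q : {q : Q ⧸ Z // q ≠ 1}, q.1.out ∉ Z := fun q h => q.2 (by
    rw [← QuotientGroup.out_eq' q.1]; exact (QuotientGroup.eq_one_iff _).mpr h)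
  have hidx2 : ∀ w : Q, w ∉ Z → (centralizer ({w} : Set Q)).index = 2 := by
    intro w hw
    have h := (centralizer ({w} : Set Q)).card_mul_index
    rw [hlt8 w hw, hQ] at h
    omega
  let f : {q : Q ⧸ Z // q ≠ 1} → {L : Subgroup Q // L.index = 2 ∧ ⁅L, L⁆ = ⊥} := fun q =>
    ⟨centralizer ({q.1.out} : Set Q), hidx2 _ (hout q), hcomm _ (hout q)⟩
  have hfb : Function.Bijective f := by
    refine ⟨fun q r h => ?_, fun L => ?_⟩
    · have h' : centralizer ({q.1.out} : Set Q) = centralizer ({r.1.out} : Set Q) :=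
        congrArg Subtype.val h
      have hmem : r.1.out ∈ centralizer ({q.1.out} : Set Q) :=
        h' ▸ Subgroup.mem_centralizer_singleton_iff.mpr rfl
      refine Subtype.ext ?_
      rw [← QuotientGroup.out_eq' q.1, ← QuotientGroup.out_eq' r.1, QuotientGroup.eq]
      exact hstruct _ (hout q) _ hmem (hout r)
    · obtain ⟨L, hLi, hLc⟩ := L
      have hLc' := Subgroup.commutator_eq_bot_iff_le_centralizer.mp hLc
      obtain ⟨w, hwL, hwZ⟩ : ∃ w ∈ L, w ∉ Z := by
        by_contra! h
        have := Subgroup.card_le_of_le (show L ≤ Z from h)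
        have h2 := L.card_mul_index
        rw [hLi, hQ] at h2
        omega
      set q : {q : Q ⧸ Z // q ≠ 1} := ⟨(w : Q ⧸ Z), fun h => hwZ ((QuotientGroup.eq_one_iff _).mp h)⟩
      refine ⟨q, Subtype.ext ?_⟩
      change centralizer ({q.1.out} : Set Q) = L
      have hqw : w⁻¹ * q.1.out ∈ Z := QuotientGroup.eq.mp (QuotientGroup.out_eq' q.1).symm
      have e : centralizer ({q.1.out} : Set Q) = centralizer ({w} : Set Q) := by
        ext u
        simp only [Subgroup.mem_centralizer_singleton_iff]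
        have hc : Commute u (w⁻¹ * q.1.out) := Subgroup.mem_center_iff.mp hqw u
        constructor
        · intro h
          have := Commute.mul_right h hc.inv_right
          rwa [mul_inv_rev, inv_inv, mul_inv_cancel_left] at this
        · intro h
          have := Commute.mul_right h hc
          rwa [mul_inv_cancel_left] at this
      rw [e]
      refine (Subgroup.eq_of_le_of_card_ge (fun u hu => ?_) ?_).symm
      · rw [Subgroup.mem_centralizer_singleton_iff]; exact (hLc' hu w hwL).symm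
      · rw [hlt8 w hwZ]
        have h2 := L.card_mul_index
        rw [hLi, hQ] at h2
        omega
  rw [← Nat.card_eq_of_bijective f hfb]
  have h1 : Nat.card (Q ⧸ Z) = 4 := by
    rw [← Subgroup.index_eq_card]
    have := Z.card_mul_index
    rw [hZ4, hQ] at this
    omega
  have h2 : Nat.card {q : Q ⧸ Z // q ≠ 1} + 1 = Nat.card (Q ⧸ Z) := by
    rw [← Finite.card_option]
    exact Nat.card_congr (Equiv.optionSubtypeNe 1)
  omega

/-- With a maximal subgroup of maximal class in a group not of maximal class, the maximal subgroups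
not of maximal class are three. -/
theorem card_not_MC {m : ℕ} (hX : Nat.card X = 2 ^ (m + 4)) (hnc : ¬ IsCyclic X) (hmc : ¬ MC X)
    {M : Subgroup X} (hM : M.index = 2) (hMc : MC M) :
    Nat.card {L : Subgroup X // L.index = 2 ∧ ¬ MC L} = 3 := by
  haveI : Fact (Nat.Prime 2) := ⟨Nat.prime_two⟩
  have hP : IsPGroup 2 X := IsPGroup.of_card hX
  haveI := Subgroup.normal_of_index_eq_two hM
  obtain ⟨d⟩ := nonempty_maxData (X := M) (m := m) (card_of_index_two hX hM) hMc
  haveI := d.cyclic
  haveI : IsCyclic (commutator M) := isCyclic_of_injective (Subgroup.inclusion d.D_le)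
    (Subgroup.inclusion_injective _)
  obtain ⟨g, hg⟩ := IsCyclic.exists_generator (α := commutator M)
  set γ : X := ((g : M) : X) with hγ
  have hγo : orderOf γ = 2 ^ (m + 1) := by
    rw [hγ, Subgroup.orderOf_coe, Subgroup.orderOf_coe, orderOf_eq_card_of_forall_mem_zpowers hg, d.card_D]
  have hγmem : γ ∈ ⁅M, M⁆ := by
    have h : γ ∈ (commutator M).map M.subtype := ⟨g, g.2, rfl⟩
    rwa [_root_.commutator_def, Subgroup.map_commutator, ← MonoidHom.range_eq_map,
      Subgroup.range_subtype] at h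
  have hDM : zpowers γ = ⁅M, M⁆ := Subgroup.eq_of_le_of_card_ge (zpowers_le.mpr hγmem)
    (by rw [Nat.card_zpowers, hγo, ← card_commutator_subgroup, d.card_D])
  have hle : zpowers γ ≤ commutator X := by
    rw [hDM, _root_.commutator_def]; exact Subgroup.commutator_mono le_top le_top
  have hDX : commutator X = zpowers γ := by
    refine (Subgroup.eq_of_le_of_card_ge hle ?_).symm
    obtain ⟨j, hj⟩ := IsPGroup.iff_card.mp (hP.to_subgroup (commutator X))
    have h1 := four_mul_commutator_le hP hnc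
    rw [MC, hj, hX] at hmc
    rw [hj, hX] at h1
    have h2 : 2 ^ (j + 2) < 2 ^ (m + 4) := by rw [pow_add]; omega
    have := (Nat.pow_lt_pow_iff_right (by norm_num)).mp h2
    rw [hj, Nat.card_zpowers, hγo]
    exact Nat.pow_le_pow_right (by norm_num) (by omega)
  set N := zpowers (γ ^ 2) with hN
  have hNle : N ≤ zpowers γ := zpowers_le.mpr (pow_mem (mem_zpowers γ) 2)
  have hNc : Nat.card N = 2 ^ m := by
    rw [hN, Nat.card_zpowers, orderOf_pow' _ (by norm_num), hγo,
      Nat.gcd_eq_right (dvd_pow_self 2 (by omega)), pow_succ, Nat.mul_div_cancel _ two_pos]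
  haveI hNn : N.Normal := by
    refine ⟨fun u hu x => ?_⟩
    obtain ⟨i, rfl⟩ := Subgroup.mem_zpowers_iff.mp hu
    have hγ' : x * γ * x⁻¹ ∈ zpowers γ := hDX ▸ Subgroup.Normal.conj_mem inferInstance γ (hle (mem_zpowers γ)) x
    obtain ⟨k, hk⟩ := Subgroup.mem_zpowers_iff.mp hγ'
    refine Subgroup.mem_zpowers_iff.mpr ⟨k * i, ?_⟩
    rw [← conj_zpow, ← conj_pow, ← hk, ← zpow_natCast, ← zpow_natCast (γ ^ k), ← zpow_mul, ← zpow_mul,
      ← zpow_mul]
    congr 1
    ring
  have hNcomm : N ≤ commutator X := hNle.trans hle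
  have iff1 : ∀ L : Subgroup X, L.index = 2 → (¬ MC L ↔ ⁅L, L⁆ ≤ N) := by
    intro L hL
    have hLD : ⁅L, L⁆ ≤ zpowers γ := by
      rw [← hDX, _root_.commutator_def]; exact Subgroup.commutator_mono le_top le_top
    rw [MC, card_commutator_subgroup, card_of_index_two (m := m + 3) hX hL]
    constructor
    · intro h
      refine isCyclic_subgroup_le hLD hNle ?_
      rw [hNc]
      obtain ⟨j, hj, hj'⟩ := (Nat.dvd_prime_pow (p := 2) (m := m + 1) Nat.prime_two).mp
        (hγo ▸ Nat.card_zpowers γ ▸ Subgroup.card_dvd_of_le hLD)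
      rw [hj'] at h ⊢
      refine pow_dvd_pow 2 ?_
      by_contra hjm
      obtain rfl : j = m + 1 := by omega
      exact h (by ring)
    · intro h heq
      have := Subgroup.card_le_of_le h
      rw [hNc] at this
      have h2 : 2 ^ (m + 3) = 8 * 2 ^ m := by ring
      have := Nat.two_pow_pos m
      omega
  have hQ : Nat.card (X ⧸ N) = 16 := by
    rw [← Subgroup.index_eq_card]
    have h := N.card_mul_index
    rw [hNc, hX, pow_add] at h
    exact Nat.eq_of_mul_eq_mul_left (Nat.two_pow_pos m) h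
  have hDQ : Nat.card (commutator (X ⧸ N)) = 2 := by
    have e : commutator (X ⧸ N) = (commutator X).map (QuotientGroup.mk' N) := by
      rw [_root_.commutator_def, _root_.commutator_def, Subgroup.map_commutator,
        Subgroup.map_top_of_surjective _ (QuotientGroup.mk'_surjective N)]
    have h2 : Nat.card ((commutator X).map (QuotientGroup.mk' N)) * Nat.card N =
        Nat.card (commutator X) := by
      have h3 := Subgroup.card_mul_index ((QuotientGroup.mk' N).domRestrict (commutator X)).ker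
      rw [MonoidHom.ker_domRestrict, QuotientGroup.ker_mk',
        Nat.card_congr (Subgroup.subgroupOfEquivOfLe hNcomm).toEquiv, Subgroup.index_eq_card,
        Nat.card_congr (QuotientGroup.quotientMulEquivOfEq (by
          rw [MonoidHom.ker_domRestrict, QuotientGroup.ker_mk'] :
          N.subgroupOf (commutator X) = ((QuotientGroup.mk' N).domRestrict (commutator X)).ker)).toEquiv,
        Nat.card_congr (QuotientGroup.quotientKerEquivRange _).toEquiv, MonoidHom.domRestrict_range] at h3
      rw [mul_comm]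
      exact h3
    rw [e]
    rw [hNc, hDX, Nat.card_zpowers, hγo, show 2 ^ (m + 1) = 2 * 2 ^ m by ring] at h2
    rw [hDX]
    exact Nat.eq_of_mul_eq_mul_right (Nat.two_pow_pos m) h2
  rw [← card_abelian_maximal hQ hDQ]
  have hNL : ∀ L : Subgroup X, L.index = 2 → N ≤ L := fun L hL => hNcomm.trans (le_of_sq_comm hL)
  refine Nat.card_congr
    { toFun := fun L => ⟨L.1.map (QuotientGroup.mk' N), ?_, ?_⟩
      invFun := fun L => ⟨L.1.comap (QuotientGroup.mk' N), ?_, ?_⟩
      left_inv := fun L => Subtype.ext ?_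
      right_inv := fun L => Subtype.ext (Subgroup.map_comap_eq_self_of_surjective
        (QuotientGroup.mk'_surjective N) _) }
  · rw [Subgroup.index_map_eq _ (QuotientGroup.mk'_surjective N)
      (by rw [QuotientGroup.ker_mk']; exact hNL _ L.2.1)]
    exact L.2.1
  · rw [← Subgroup.map_commutator, Subgroup.map_eq_bot_iff, QuotientGroup.ker_mk']
    exact (iff1 _ L.2.1).mp L.2.2
  · rw [Subgroup.index_comap_of_surjective _ (QuotientGroup.mk'_surjective N)]
    exact L.2.1
  · rw [iff1 _ (by rw [Subgroup.index_comap_of_surjective _ (QuotientGroup.mk'_surjective N)]; exact L.2.1)]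
    refine le_trans ?_ (QuotientGroup.ker_mk' N).le
    rw [← Subgroup.map_eq_bot_iff, Subgroup.map_commutator,
      Subgroup.map_comap_eq_self_of_surjective (QuotientGroup.mk'_surjective N)]
    exact L.2.2
  · change (L.1.map (QuotientGroup.mk' N)).comap (QuotientGroup.mk' N) = L.1
    rw [Subgroup.comap_map_eq, QuotientGroup.ker_mk', sup_eq_left]
    exact hNL _ L.2.1

end CfsgLib.KulakoffTwo
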