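import Mathlib

/-!
# Normal bases for a group acting freely on the residue fields of a semilocal ring

If a finite group `H` acts on a commutative ring `E` with finitely many maximal ideals so that no
non-trivial element acts trivially modulo a maximal ideal, then some `e : E` has invertible orbit
matrix `((g * h) • e)`.
-/

set_option autoImplicit false

namespace CfsgLib.FrobeniusOrbit

universe u v

/-- Normal basis theorem for a faithful action on a field, in matrix form. -/
theorem exists_orbit_nondegenerate {L : Type u} [Field L] {D : Type v} [Group D] [Fintype D]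
    (θ : D →* (L ≃+* L)) (hθ : Function.Injective θ) :
    ∃ x : L, ∀ c : D → L, (∀ d, ∑ d', θ (d * d') x * c d' = 0) → c = 0 := by
  classical
  letI : MulSemiringAction D L := MulSemiringAction.compHom L θ
  have hsmul : ∀ (d : D) (y : L), d • y = θ d y := fun _ _ => rfl
  haveI : FaithfulSMul D L := ⟨fun {a b} h => hθ (RingEquiv.ext fun y => by
    rw [← hsmul, ← hsmul]; exact h y)⟩
  obtain ⟨x, hx⟩ := exists_linearIndependent_algEquiv_apply (FixedPoints.subfield D L) L
  refine ⟨x, fun c hc => ?_⟩
  have hli : LinearIndependent (FixedPoints.subfield D L) fun d : D => θ d x :=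
    hx.comp (fun d => MulSemiringAction.toAlgEquiv (FixedPoints.subfield D L) L d)
      (fun a b h => hθ (RingEquiv.ext fun y => by
        rw [← hsmul, ← hsmul]; exact DFunLike.congr_fun h y))
  -- the trace lies in the fixed field
  let T : L → L := fun y => ∑ d, θ d y
  have hT : ∀ y, T y ∈ FixedPoints.subfield D L := fun y a => by
    show a • (∑ d, θ d y) = ∑ d, θ d y
    rw [Finset.smul_sum]
    exact Fintype.sum_equiv (Equiv.mulLeft a) _ _ fun d => by
      rw [hsmul, Equiv.coe_mulLeft, map_mul, RingAut.mul_apply]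
  have key : ∀ (lam : L) (d' : D), T (lam * c d') = 0 := by
    intro lam
    have h0 : ∑ d', (⟨T (lam * c d'), hT _⟩ : FixedPoints.subfield D L) • θ d' x = 0 := by
      have h1 : ∀ d : D, θ d⁻¹ (lam * ∑ d', θ (d * d') x * c d') = 0 := fun d => by
        rw [hc d, mul_zero, map_zero]
      have h2 : ∑ d : D, θ d⁻¹ (lam * ∑ d', θ (d * d') x * c d') =
          ∑ d', T (lam * c d') * θ d' x := by
        simp only [Finset.mul_sum, map_sum, T, Finset.sum_mul]
        rw [Finset.sum_comm]
        refine Finset.sum_congr rfl fun d' _ => ?_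
        refine Fintype.sum_equiv (Equiv.inv D) _ _ fun d => ?_
        rw [Equiv.inv_apply, mul_left_comm, map_mul, map_mul θ d d', RingAut.mul_apply,
          ← RingAut.mul_apply (θ d⁻¹) (θ d), ← map_mul, inv_mul_cancel, map_one, mul_comm]
        rfl
      rw [Finset.sum_eq_zero fun d _ => h1 d] at h2
      simpa [Subfield.smul_def] using h2.symm
    intro d'
    exact congrArg Subtype.val (Fintype.linearIndependent_iff.mp hli _ h0 d')
  funext d'
  by_contra hne
  have hT0 : ∀ y : L, ∑ d : D, θ d y = 0 := fun y => by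
    have := key (y * (c d')⁻¹) d'
    rwa [inv_mul_cancel_right₀ hne] at this
  have hart := Fintype.linearIndependent_iff.mp
    ((linearIndependent_monoidHom L L).comp (fun d : D => ((θ d : L →+* L) : L →* L))
      (fun a b h => hθ (RingEquiv.ext fun y => DFunLike.congr_fun h y)))
    (fun _ => 1) (by funext y; simpa using hT0 y) 1
  exact one_ne_zero hart

open scoped Pointwise in
/-- An element with invertible orbit matrix. -/
theorem exists_isUnit_det_orbit {E : Type u} [CommRing E] [Finite (MaximalSpectrum E)]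
    {H : Type v} [Group H] [Fintype H] [DecidableEq H] [MulSemiringAction H E]
    (hfree : ∀ m : Ideal E, m.IsMaximal → ∀ h : H, h ≠ 1 → ∃ e, h • e - e ∉ m) :
    ∃ e : E, IsUnit (Matrix.det (Matrix.of fun g h : H => (g * h) • e)) := by
  classical
  let tw : H → MaximalSpectrum E → MaximalSpectrum E := fun h m =>
    ⟨m.1.comap (MulSemiringAction.toRingEquiv H E h⁻¹),
      Ideal.comap_isMaximal_of_equiv _⟩
  have mem_tw : ∀ h m (y : E), y ∈ (tw h m).1 ↔ h⁻¹ • y ∈ m.1 := fun _ _ _ => Iff.rfl
  have tw_one : ∀ m, tw 1 m = m := fun m =>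
    MaximalSpectrum.ext (Ideal.ext fun y => by rw [mem_tw, inv_one, one_smul])
  have tw_mul : ∀ a b m, tw (a * b) m = tw a (tw b m) := fun a b m =>
    MaximalSpectrum.ext (Ideal.ext fun y => by rw [mem_tw, mem_tw, mem_tw, mul_inv_rev, mul_smul])
  let s : Setoid (MaximalSpectrum E) := ⟨fun m n => ∃ h, tw h m = n,
    fun m => ⟨1, tw_one m⟩,
    fun {m n} ⟨h, e⟩ => ⟨h⁻¹, by rw [← e, ← tw_mul, inv_mul_cancel, tw_one]⟩,
    fun {l m n} ⟨a, e₁⟩ ⟨b, e₂⟩ => ⟨b * a, by rw [tw_mul, e₁, e₂]⟩⟩
  let r : MaximalSpectrum E → MaximalSpectrum E := fun m => (Quotient.mk s m).out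
  have r_rel : ∀ m, ∃ h, tw h (r m) = m := fun m => Quotient.exact (Quotient.out_eq (Quotient.mk s m))
  have r_tw : ∀ h m, r (tw h m) = r m := fun h m => by
    have hh : s.r (tw h m) m := ⟨h⁻¹, by rw [← tw_mul, inv_mul_cancel, tw_one]⟩
    exact congrArg Quotient.out (Quotient.sound hh)
  have r_r : ∀ m, r (r m) = r m := fun m => by
    show (Quotient.mk s (Quotient.mk s m).out).out = _
    rw [Quotient.out_eq]
  -- local data at the representatives
  have loc : ∀ m : MaximalSpectrum E, r m = m → ∃ x : E, ∀ c : H → E,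
      (∀ a, ∑ b ∈ Finset.univ.filter (fun b => tw (a * b) m = m), ((a * b) • x) * c b ∈ m.1) →
        ∀ b, c b ∈ m.1 := by
    intro m _
    haveI := m.isMaximal
    letI : Field (E ⧸ m.1) := Ideal.Quotient.field m.1
    let D : Subgroup H :=
      { carrier := {h | tw h m = m}
        one_mem' := tw_one m
        mul_mem' := fun {a b} ha hb => by
          show tw (a * b) m = m
          rw [tw_mul, hb, ha]
        inv_mem' := fun {a} ha => by
          show tw a⁻¹ m = m
          conv_lhs => rw [← (ha : tw a m = m)]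
          rw [← tw_mul, inv_mul_cancel, tw_one] }
    have hmap : ∀ (d : D) (y : E), y ∈ m.1 → (d : H) • y ∈ m.1 := fun d y hy => by
      have h0 : tw ((d : H)⁻¹) m = m := (D.inv_mem d.2 : tw _ m = m)
      rw [← h0, mem_tw, inv_inv] at hy
      exact hy
    have hmapeq : ∀ d : D, m.1 = m.1.map (↑(MulSemiringAction.toRingEquiv H E (d : H)) : E →+* E) := by
      intro d
      refine le_antisymm (fun y hy => ?_) (Ideal.map_le_iff_le_comap.mpr fun y hy => hmap d y hy)
      have h1 : (d : H)⁻¹ • y ∈ m.1 := hmap d⁻¹ y hy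
      have h2 := Ideal.mem_map_of_mem
        (↑(MulSemiringAction.toRingEquiv H E (d : H)) : E →+* E) h1
      simpa using h2
    let θ : D →* ((E ⧸ m.1) ≃+* (E ⧸ m.1)) :=
      { toFun := fun d => Ideal.quotientEquiv m.1 m.1 (MulSemiringAction.toRingEquiv H E (d : H))
          (hmapeq d)
        map_one' := RingEquiv.ext fun q => by
          obtain ⟨y, rfl⟩ := Ideal.Quotient.mk_surjective q
          simp
        map_mul' := fun a b => RingEquiv.ext fun q => by
          obtain ⟨y, rfl⟩ := Ideal.Quotient.mk_surjective q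
          simp [mul_smul] }
    have hθ_mk : ∀ (d : D) (y : E), θ d (Ideal.Quotient.mk m.1 y) =
        Ideal.Quotient.mk m.1 ((d : H) • y) := fun d y => rfl
    have hθ : Function.Injective θ := by
      rw [injective_iff_map_eq_one]
      intro d hd
      by_contra hne
      obtain ⟨e, he⟩ := hfree m.1 m.isMaximal (d : H) (fun h => hne (Subtype.ext h))
      refine he (Ideal.Quotient.eq.mp ?_)
      rw [← hθ_mk, hd]
      rfl
    obtain ⟨xb, hxb⟩ := exists_orbit_nondegenerate θ hθ
    obtain ⟨x, rfl⟩ := Ideal.Quotient.mk_surjective xb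
    refine ⟨x, fun c hc b₀ => ?_⟩
    have := congrFun (hxb (fun d => Ideal.Quotient.mk m.1 (c (b₀ * (d : H)))) fun d => ?_) 1
    · simpa [Ideal.Quotient.eq_zero_iff_mem] using this
    · have hs := hc ((d : H) * b₀⁻¹)
      rw [← Ideal.Quotient.eq_zero_iff_mem, map_sum] at hs
      refine Eq.trans ?_ hs
      refine Finset.sum_bij (fun d' _ => b₀ * (d' : H)) (fun d' _ => ?_)
        (fun a _ b _ h => Subtype.ext (mul_left_cancel h)) (fun b hb => ?_) (fun d' _ => ?_)
      · simp only [Finset.mem_filter, Finset.mem_univ, true_and]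
        rw [mul_assoc, inv_mul_cancel_left]
        exact D.mul_mem d.2 d'.2
      · simp only [Finset.mem_filter, Finset.mem_univ, true_and] at hb
        refine ⟨⟨b₀⁻¹ * b, ?_⟩, Finset.mem_univ _, by simp⟩
        have h1 := D.mul_mem (D.inv_mem d.2) (hb : (d : H) * b₀⁻¹ * b ∈ D)
        rwa [mul_assoc (d : H), inv_mul_cancel_left] at h1
      · rw [hθ_mk, map_mul (Ideal.Quotient.mk m.1), Subgroup.coe_mul, mul_assoc (d : H) b₀⁻¹, inv_mul_cancel_left]
  choose x hx using loc
  obtain ⟨e, he⟩ := Ideal.exists_forall_sub_mem_ideal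
    (I := fun m : MaximalSpectrum E => m.1)
    (fun m n hmn => Ideal.isCoprime_of_isMaximal fun h => hmn (MaximalSpectrum.ext h))
    (fun m => if h : r m = m then x m h else 0)
  refine ⟨e, ?_⟩
  set M := Matrix.of fun g h : H => (g * h) • e with hM
  -- no representative contains the determinant
  have hrep : ∀ m : MaximalSpectrum E, r m = m → M.det ∉ m.1 := by
    intro m hm hdet
    haveI := m.isMaximal
    letI : Field (E ⧸ m.1) := Ideal.Quotient.field m.1
    have hdet0 : (M.map (Ideal.Quotient.mk m.1)).det = 0 := by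
      rw [← RingHom.mapMatrix_apply, ← RingHom.map_det, Ideal.Quotient.eq_zero_iff_mem]
      exact hdet
    obtain ⟨w, hw0, hw⟩ := Matrix.exists_mulVec_eq_zero_iff.mpr hdet0
    choose c hcw using fun b => Ideal.Quotient.mk_surjective (w b)
    refine hw0 (funext fun b => ?_)
    rw [← hcw b, Pi.zero_apply, Ideal.Quotient.eq_zero_iff_mem]
    refine hx m hm c (fun a => ?_) b
    rw [← Ideal.Quotient.eq_zero_iff_mem, map_sum]
    refine Eq.trans ?_ (congrFun hw a)
    rw [Matrix.mulVec, dotProduct, Finset.sum_filter]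
    refine Finset.sum_congr rfl fun b' _ => ?_
    rw [Matrix.map_apply, hM, Matrix.of_apply, ← hcw b', ← map_mul]
    split_ifs with hab
    · refine Ideal.Quotient.eq.mpr ?_
      have h1 : (a * b') • (e - x m hm) ∈ m.1 := by
        have h2 := he m
        rw [dif_pos hm] at h2
        refine (SetLike.ext_iff.mp (congrArg MaximalSpectrum.asIdeal hab) _).mp
          ((mem_tw _ _ _).mpr ?_)
        rwa [inv_smul_smul]
      rw [← sub_mul, ← smul_sub]
      have h3 : ((a * b') • (x m hm - e)) ∈ m.1 := by
        rw [← neg_sub, smul_neg]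
        exact m.1.neg_mem h1
      exact Ideal.mul_mem_right _ _ h3
    · refine (Ideal.Quotient.eq_zero_iff_mem.mpr (Ideal.mul_mem_right _ _ ?_)).symm
      have h2 := he (tw (a * b')⁻¹ m)
      have h3 : r (tw (a * b')⁻¹ m) ≠ tw (a * b')⁻¹ m := fun h => hab (by
        rw [r_tw, hm] at h
        conv_lhs => rw [h, ← tw_mul, mul_inv_cancel, tw_one])
      rw [dif_neg h3, sub_zero, mem_tw, inv_inv] at h2
      exact h2
  by_contra hnu
  obtain ⟨J, hJ, hJmem⟩ := exists_max_ideal_of_mem_nonunits hnu
  obtain ⟨g, hg⟩ := r_rel ⟨J, hJ⟩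
  have hmem : g⁻¹ • M.det ∈ (r ⟨J, hJ⟩).1 := by
    rw [← mem_tw, hg]
    exact hJmem
  refine hrep (r ⟨J, hJ⟩) (r_r _) ?_
  have hperm : g⁻¹ • M.det = (M.submatrix (Equiv.mulLeft g⁻¹) id).det := by
    have := RingHom.map_det (MulSemiringAction.toRingHom H E g⁻¹) M
    rw [RingHom.mapMatrix_apply] at this
    refine this.trans (congrArg Matrix.det (Matrix.ext fun a b => ?_))
    simp [hM, mul_smul, mul_assoc]
  rw [hperm, Matrix.det_permute] at hmem
  rcases Int.units_eq_one_or (Equiv.Perm.sign (Equiv.mulLeft g⁻¹)) with h | h <;>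
    simpa [h] using hmem

end CfsgLib.FrobeniusOrbit
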