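import Mathlib

/-!
# Order types and power map counts
-/

set_option autoImplicit false

namespace CfsgLib.Frobenius

variable {G H : Type*} [Group G] [Finite G] [Group H] [Finite H]

theorem card_pow_eq_one_eq_sum (n : ℕ) (hn : n ≠ 0) :
    Nat.card {g : G // g ^ n = 1} = ∑ d ∈ n.divisors, Nat.card {g : G // orderOf g = d} := by
  classical
  have := Fintype.ofFinite G
  simp only [Nat.card_eq_fintype_card, Fintype.card_subtype]
  rw [Finset.card_eq_sum_card_fiberwise (f := fun g : G => orderOf g) (t := n.divisors) (fun g hg => by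
    simp only [Finset.coe_filter, Finset.mem_univ, true_and, Set.mem_ofPred_eq] at hg
    exact Nat.mem_divisors.mpr ⟨orderOf_dvd_of_pow_eq_one hg, hn⟩)]
  refine Finset.sum_congr rfl fun d hd => congrArg Finset.card ?_
  ext g
  simp only [Finset.mem_filter, Finset.mem_univ, true_and]
  exact ⟨fun h => h.2, fun h => ⟨orderOf_dvd_iff_pow_eq_one.mp (h ▸ Nat.dvd_of_mem_divisors hd), h⟩⟩

theorem pow_counts_eq
    (h : ∀ n : ℕ, Nat.card {g : G // orderOf g = n} = Nat.card {g : H // orderOf g = n}) (n : ℕ) :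
    Nat.card {g : G // g ^ n = 1} = Nat.card {g : H // g ^ n = 1} := by
  have key : ∀ m, m ≠ 0 → Nat.card {g : G // g ^ m = 1} = Nat.card {g : H // g ^ m = 1} := fun m hm => by
    rw [card_pow_eq_one_eq_sum m hm, card_pow_eq_one_eq_sum m hm]
    exact Finset.sum_congr rfl fun d _ => h d
  rcases eq_or_ne n 0 with rfl | hn
  · have := key (Nat.card G * Nat.card H) (Nat.mul_pos Nat.card_pos Nat.card_pos).ne'
    rw [Nat.card_congr (Equiv.subtypeUnivEquiv fun g : G => by rw [pow_mul, pow_card_eq_one', one_pow]),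
      Nat.card_congr (Equiv.subtypeUnivEquiv fun g : H => by rw [mul_comm, pow_mul, pow_card_eq_one', one_pow])] at this
    rw [Nat.card_congr (Equiv.subtypeUnivEquiv fun g : G => pow_zero g),
      Nat.card_congr (Equiv.subtypeUnivEquiv fun g : H => pow_zero g), this]
  · exact key n hn

theorem order_counts_eq
    (h : ∀ n : ℕ, Nat.card {g : G // g ^ n = 1} = Nat.card {g : H // g ^ n = 1}) (n : ℕ) :
    Nat.card {g : G // orderOf g = n} = Nat.card {g : H // orderOf g = n} := by
  induction n using Nat.strong_induction_on with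
  | _ n ih =>
    rcases eq_or_ne n 0 with rfl | hn
    · have : IsEmpty {g : G // orderOf g = 0} := ⟨fun g => (orderOf_pos g.1).ne' g.2⟩
      have : IsEmpty {g : H // orderOf g = 0} := ⟨fun g => (orderOf_pos g.1).ne' g.2⟩
      rw [Nat.card_of_isEmpty, Nat.card_of_isEmpty]
    · have h1 := h n
      rw [card_pow_eq_one_eq_sum n hn, card_pow_eq_one_eq_sum n hn, ← Nat.cons_self_properDivisors hn,
        Finset.sum_cons, Finset.sum_cons,
        Finset.sum_congr rfl fun d hd => ih d (Nat.mem_properDivisors.mp hd).2] at h1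
      omega

theorem isNilpotent_of_pow_counts (hG : Group.IsNilpotent G)
    (h : ∀ n : ℕ, Nat.card {g : G // g ^ n = 1} = Nat.card {g : H // g ^ n = 1}) :
    Group.IsNilpotent H := by
  have hcard : Nat.card G = Nat.card H := by
    have := h 0
    rwa [Nat.card_congr (Equiv.subtypeUnivEquiv fun g : G => pow_zero g),
      Nat.card_congr (Equiv.subtypeUnivEquiv fun g : H => pow_zero g)] at this
  have tf : ∀ (K : Type _) [Group K] [Finite K], Group.IsNilpotent K ↔
      ∀ (p : ℕ) (_hp : Fact p.Prime) (P : Sylow p K), (↑P : Subgroup K).Normal :=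
    fun K _ _ => (Group.isNilpotent_of_finite_tfae (G := K)).out 0 3
  refine (tf H).mpr fun p hp Q => ?_
  haveI := hp
  obtain ⟨P⟩ : Nonempty (Sylow p G) := inferInstance
  haveI hPn : (P : Subgroup G).Normal := ((Group.isNilpotent_of_finite_tfae (G := G)).out 0 3 rfl rfl : Group.IsNilpotent G ↔ ∀ (p : ℕ) (_hp : Fact p.Prime) (P : Sylow p G), (↑P : Subgroup G).Normal).mp hG p hp P
  set q := p ^ (Nat.card G).factorization p with hq
  have hP : Nat.card {g : G // g ^ q = 1} = q := by
    rw [hq, ← P.card_eq_multiplicity]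
    refine Nat.card_congr (Equiv.subtypeEquivRight fun g => ⟨fun hg => ?_, fun hg => ?_⟩)
    · haveI := Sylow.unique_of_normal P hPn
      have hz : IsPGroup p (Subgroup.zpowers g) := by
        obtain ⟨k, -, hk⟩ := (Nat.dvd_prime_pow hp.out).mp
          (orderOf_dvd_of_pow_eq_one (P.card_eq_multiplicity ▸ hg))
        exact IsPGroup.of_card (by rw [Nat.card_zpowers, hk])
      obtain ⟨R, hR⟩ := hz.exists_le_sylow
      rw [Subsingleton.elim P R]
      exact hR (Subgroup.mem_zpowers g)
    · exact congrArg Subtype.val (pow_card_eq_one' (x := (⟨g, hg⟩ : (P : Subgroup G))))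
  have hQcard : Nat.card (Q : Subgroup H) = q := by rw [Q.card_eq_multiplicity, ← hcard]
  have hQ : ((Q : Subgroup H) : Set H) = {g : H | g ^ q = 1} := by
    refine Set.eq_of_subset_of_ncard_le (fun g hg => ?_) ?_ (Set.toFinite _)
    · rw [← hQcard]
      exact congrArg Subtype.val (pow_card_eq_one' (x := (⟨g, hg⟩ : (Q : Subgroup H))))
    · rw [← Nat.card_coe_set_eq, ← Nat.card_coe_set_eq]
      exact le_of_eq (((h q).symm.trans hP).trans hQcard.symm)
  refine ⟨fun g hg x => ?_⟩
  rw [← SetLike.mem_coe, hQ] at hg ⊢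
  show (x * g * x⁻¹) ^ q = 1
  rw [conj_pow, show g ^ q = 1 from hg, mul_one, mul_inv_cancel]

end CfsgLib.Frobenius
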